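import Mathlib

set_option autoImplicit false
universe u

/-!
# Total complex of the tensor product of two `ℕ`-indexed cochain complexes of `k`-modules

Hand-rolled (unbundled families): `U : ℕ → Type u`, `dU a : U a →ₗ[k] U (a + 1)`.

* `Idx n` : pairs `(a, b)` with `a + b = n`;
* `TotX k U V n := ∀ p : Idx n, U p.1.1 ⊗[k] V p.1.2`;
* `inc h : U a ⊗[k] V b →ₗ[k] TotX k U V n` for `h : a + b = n`;
* `TotD dU dV n : TotX k U V n →ₗ[k] TotX k U V (n + 1)`,
  `D (u ⊗ v) = du ⊗ v + (-1)^a u ⊗ dv` on `U a ⊗ V b`;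
* `TotMap f g n` : the componentwise map `f a ⊗ g b`;
* for a complex `(X, D)` and submodules `G n ≤ X n`: `cocyc D G q = G q ⊓ ker (D q)`,
  `cobdy D G (q+1) = D q '' G q`, `cobdy D G 0 = ⊥`, `Hs D G q = cocyc ⧸ cobdy`.
-/

namespace Groth.Agent.H81.Kun

open scoped TensorProduct

/-- the `n`-th antidiagonal -/
abbrev Idx (n : ℕ) : Type := {p : ℕ × ℕ // p.1 + p.2 = n}

instance (n : ℕ) : Fintype (Idx n) :=
  Fintype.subtype (Finset.HasAntidiagonal.antidiagonal n)
    (fun _ => Finset.HasAntidiagonal.mem_antidiagonal)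

/-- constructor -/
abbrev Idx.mk' {n : ℕ} (a b : ℕ) (h : a + b = n) : Idx n := ⟨(a, b), h⟩

section Tot

variable (k : Type u) [CommRing k]
variable (U : ℕ → Type u) [∀ a, AddCommGroup (U a)] [∀ a, Module k (U a)]
  (V : ℕ → Type u) [∀ b, AddCommGroup (V b)] [∀ b, Module k (V b)]

/-- terms of the total complex -/
abbrev TotX (n : ℕ) : Type u := ∀ p : Idx n, U p.1.1 ⊗[k] V p.1.2

variable {k U V}

/-- the inclusion of the `(a, b)` summand -/
noncomputable def inc {a b n : ℕ} (h : a + b = n) : U a ⊗[k] V b →ₗ[k] TotX k U V n :=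
  LinearMap.single k (fun p : Idx n => U p.1.1 ⊗[k] V p.1.2) ⟨(a, b), h⟩

theorem inc_apply_same {a b n : ℕ} (h : a + b = n) (t : U a ⊗[k] V b) :
    inc (k := k) (U := U) (V := V) h t ⟨(a, b), h⟩ = t := by
  simp [inc]

theorem inc_apply_ne {a b n : ℕ} (h : a + b = n) (t : U a ⊗[k] V b) (p : Idx n)
    (hp : p ≠ ⟨(a, b), h⟩) : inc (k := k) (U := U) (V := V) h t p = 0 := by
  simp [inc, Pi.single_eq_of_ne hp]

/-- every element is the sum of its components -/
theorem sum_inc {n : ℕ} (w : TotX k U V n) :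
    ∑ p : Idx n, inc (k := k) (U := U) (V := V) p.2 (w p) = w := by
  funext q
  rw [Finset.sum_apply, Finset.sum_eq_single q]
  · exact inc_apply_same q.2 (w q)
  · intro p _ hp
    exact inc_apply_ne p.2 (w p) q (Ne.symm hp)
  · intro hq
    exact absurd (Finset.mem_univ q) hq

/-- linear maps out of `TotX` are determined on the pure tensors of the summands -/
theorem hom_ext {n : ℕ} {Y : Type*} [AddCommGroup Y] [Module k Y]
    {f g : TotX k U V n →ₗ[k] Y}
    (h : ∀ (a b : ℕ) (hab : a + b = n) (x : U a) (y : V b),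
      f (inc hab (x ⊗ₜ[k] y)) = g (inc hab (x ⊗ₜ[k] y))) : f = g := by
  apply LinearMap.pi_ext'
  rintro ⟨⟨a, b⟩, hab⟩
  apply TensorProduct.ext'
  intro x y
  exact h a b hab x y

variable (dU : ∀ a, U a →ₗ[k] U (a + 1)) (dV : ∀ b, V b →ₗ[k] V (b + 1))

/-- the differential of the total complex -/
noncomputable def TotD (n : ℕ) : TotX k U V n →ₗ[k] TotX k U V (n + 1) :=
  ∑ p : Idx n,
    (inc (k := k) (U := U) (V := V) (show p.1.1 + 1 + p.1.2 = n + 1 by have := p.2; omega) ∘ₗ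
        (dU p.1.1).rTensor (V p.1.2) +
      ((-1 : k) ^ p.1.1) •
        (inc (k := k) (U := U) (V := V) (show p.1.1 + (p.1.2 + 1) = n + 1 by have := p.2; omega) ∘ₗ
          (dV p.1.2).lTensor (U p.1.1))) ∘ₗ
      LinearMap.proj p

theorem TotD_inc {a b n : ℕ} (h : a + b = n) (t : U a ⊗[k] V b) :
    TotD dU dV n (inc h t) =
      inc (show a + 1 + b = n + 1 by omega) ((dU a).rTensor (V b) t) +
        ((-1 : k) ^ a) • inc (show a + (b + 1) = n + 1 by omega) ((dV b).lTensor (U a) t) := by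
  unfold TotD
  rw [LinearMap.sum_apply, Finset.sum_eq_single (⟨(a, b), h⟩ : Idx n)]
  · simp only [LinearMap.comp_apply, LinearMap.proj_apply, inc_apply_same, LinearMap.add_apply,
      LinearMap.smul_apply]
  · intro p _ hp
    rw [LinearMap.comp_apply, LinearMap.proj_apply, inc_apply_ne h t p hp, map_zero]
  · intro hq
    exact absurd (Finset.mem_univ _) hq

theorem TotD_inc_tmul {a b n : ℕ} (h : a + b = n) (x : U a) (y : V b) :
    TotD dU dV n (inc h (x ⊗ₜ[k] y)) =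
      inc (show a + 1 + b = n + 1 by omega) (dU a x ⊗ₜ[k] y) +
        ((-1 : k) ^ a) • inc (show a + (b + 1) = n + 1 by omega) (x ⊗ₜ[k] dV b y) := by
  rw [TotD_inc]
  rfl

theorem TotD_TotD (hU : ∀ a x, dU (a + 1) (dU a x) = 0) (hV : ∀ b y, dV (b + 1) (dV b y) = 0)
    (n : ℕ) (w : TotX k U V n) : TotD dU dV (n + 1) (TotD dU dV n w) = 0 := by
  have key : TotD dU dV (n + 1) ∘ₗ TotD dU dV n = 0 := by
    apply hom_ext
    intro a b hab x y
    rw [LinearMap.comp_apply, TotD_inc_tmul, map_add, map_smul, TotD_inc_tmul, TotD_inc_tmul,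
      hU, hV, TensorProduct.zero_tmul, TensorProduct.tmul_zero, map_zero, map_zero, smul_zero,
      add_zero, zero_add, LinearMap.zero_apply, pow_succ, mul_neg_one, neg_smul]
    exact neg_add_cancel _
  exact LinearMap.congr_fun key w

variable {U' : ℕ → Type u} [∀ a, AddCommGroup (U' a)] [∀ a, Module k (U' a)]
  {V' : ℕ → Type u} [∀ b, AddCommGroup (V' b)] [∀ b, Module k (V' b)]
  {U'' : ℕ → Type u} [∀ a, AddCommGroup (U'' a)] [∀ a, Module k (U'' a)]
  {V'' : ℕ → Type u} [∀ b, AddCommGroup (V'' b)] [∀ b, Module k (V'' b)]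

/-- the componentwise map `f a ⊗ g b` -/
noncomputable def TotMap (f : ∀ a, U a →ₗ[k] U' a) (g : ∀ b, V b →ₗ[k] V' b) (n : ℕ) :
    TotX k U V n →ₗ[k] TotX k U' V' n :=
  LinearMap.pi fun p => TensorProduct.map (f p.1.1) (g p.1.2) ∘ₗ LinearMap.proj p

theorem TotMap_apply (f : ∀ a, U a →ₗ[k] U' a) (g : ∀ b, V b →ₗ[k] V' b) (n : ℕ)
    (w : TotX k U V n) (p : Idx n) :
    TotMap f g n w p = TensorProduct.map (f p.1.1) (g p.1.2) (w p) := rfl

theorem TotMap_inc (f : ∀ a, U a →ₗ[k] U' a) (g : ∀ b, V b →ₗ[k] V' b) {a b n : ℕ}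
    (h : a + b = n) (t : U a ⊗[k] V b) :
    TotMap f g n (inc h t) = inc h (TensorProduct.map (f a) (g b) t) := by
  funext p
  rw [TotMap_apply]
  by_cases hp : p = ⟨(a, b), h⟩
  · subst hp
    rw [inc_apply_same, inc_apply_same]
  · rw [inc_apply_ne h t p hp, inc_apply_ne h _ p hp, map_zero]

theorem TotMap_comp (f : ∀ a, U a →ₗ[k] U' a) (g : ∀ b, V b →ₗ[k] V' b)
    (f' : ∀ a, U' a →ₗ[k] U'' a) (g' : ∀ b, V' b →ₗ[k] V'' b) (n : ℕ) (w : TotX k U V n) :
    TotMap f' g' n (TotMap f g n w) = TotMap (fun a => f' a ∘ₗ f a) (fun b => g' b ∘ₗ g b) n w := by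
  funext p
  rw [TotMap_apply, TotMap_apply, TotMap_apply, TensorProduct.map_comp, LinearMap.comp_apply]

theorem TotMap_id (n : ℕ) (w : TotX k U V n) :
    TotMap (fun a => (LinearMap.id : U a →ₗ[k] U a)) (fun b => (LinearMap.id : V b →ₗ[k] V b)) n w
      = w := by
  funext p
  rw [TotMap_apply, TensorProduct.map_id, LinearMap.id_apply]

/-- chain maps induce chain maps of total complexes -/
theorem TotMap_TotD (f : ∀ a, U a →ₗ[k] U' a) (g : ∀ b, V b →ₗ[k] V' b)
    (dU' : ∀ a, U' a →ₗ[k] U' (a + 1)) (dV' : ∀ b, V' b →ₗ[k] V' (b + 1))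
    (hf : ∀ a x, f (a + 1) (dU a x) = dU' a (f a x))
    (hg : ∀ b y, g (b + 1) (dV b y) = dV' b (g b y)) (n : ℕ) (w : TotX k U V n) :
    TotMap f g (n + 1) (TotD dU dV n w) = TotD dU' dV' n (TotMap f g n w) := by
  have key : TotMap f g (n + 1) ∘ₗ TotD dU dV n = TotD dU' dV' n ∘ₗ TotMap f g n := by
    apply hom_ext
    intro a b hab x y
    rw [LinearMap.comp_apply, LinearMap.comp_apply, TotD_inc_tmul, map_add, map_smul, TotMap_inc,
      TotMap_inc, TotMap_inc, TensorProduct.map_tmul, TensorProduct.map_tmul,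
      TensorProduct.map_tmul, TotD_inc_tmul, hf, hg]
  exact LinearMap.congr_fun key w

end Tot

section Sub

variable {k : Type u} [CommRing k]
variable {X : ℕ → Type u} [∀ n, AddCommGroup (X n)] [∀ n, Module k (X n)]
  (D : ∀ n, X n →ₗ[k] X (n + 1)) (G : ∀ n, Submodule k (X n))

/-- cocycles of the subcomplex `G` -/
def cocyc (q : ℕ) : Submodule k (X q) := G q ⊓ LinearMap.ker (D q)

/-- coboundaries of the subcomplex `G` -/
def cobdy : (q : ℕ) → Submodule k (X q)
  | 0 => ⊥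
  | q + 1 => (G q).map (D q)

/-- cohomology of the subcomplex `G` -/
abbrev Hs (q : ℕ) : Type u := ↥(cocyc D G q) ⧸ (cobdy D G q).comap (cocyc D G q).subtype

end Sub

end Groth.Agent.H81.Kun
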