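import Mathlib
import Groth.Agent.H81.Kun.Defs
import Groth.Agent.H98.Segre
import Groth.Prelude.Def_GrLC

set_option autoImplicit false
set_option linter.unusedSectionVars false
set_option linter.style.haveILetI false
universe u

/-!
# Comparing the degree `d` part of the cohomology of a graded complex with the cohomology of a
complex of `k`-vector spaces
-/

namespace Groth.Agent.H81.Kun

section Compare

variable {k B : Type u} [CommRing k] [CommRing B] [Algebra k B]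
variable {Z : ℕ → Type u} [∀ n, AddCommGroup (Z n)] [∀ n, Module k (Z n)]
  (D : ∀ n, Z n →ₗ[k] Z (n + 1)) (G : ∀ n, Submodule k (Z n))
variable {X : ℕ → Type u} [∀ n, AddCommGroup (X n)] [∀ n, Module B (X n)]
  (𝒳 : ∀ n, ℤ → AddSubgroup (X n)) [∀ n, DirectSum.Decomposition (𝒳 n)]
  (δ : ∀ n, X n →ₗ[B] X (n + 1)) (hδ : ∀ n, GrLC.IsGrHom (𝒳 n) (𝒳 (n + 1)) (δ n))
  (Γ : ∀ n, Submodule B (X n)) (hΓ : ∀ n, (Γ n).IsHomogeneous (𝒳 n))
  (d : ℤ)
  (ι : ∀ n, Z n →+ X n) (hinj : ∀ n, Function.Injective (ι n))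
  (hD : ∀ n z, ι (n + 1) (D n z) = δ n (ι n z))
  (hsm : ∀ n (c : k) z, ι n (c • z) = algebraMap k B c • ι n z)
  (hrange : ∀ n x, x ∈ 𝒳 n d ↔ ∃ z, ι n z = x)
  (hG : ∀ n z, z ∈ G n ↔ ι n z ∈ Γ n)

include hD hG in
theorem iota_mem_cocyc (q : ℕ) (z : Z q) (hz : z ∈ cocyc D G q) : ι q z ∈ cocyc δ Γ q := by
  refine ⟨(hG q z).mp hz.1, ?_⟩
  change δ q (ι q z) = 0
  have h2 : D q z = 0 := hz.2
  rw [← hD, h2, map_zero]

include hD hG in
theorem iota_mem_cobdy (q : ℕ) (z : Z q) (hz : z ∈ cobdy D G q) : ι q z ∈ cobdy δ Γ q := by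
  cases q with
  | zero =>
    have : z = 0 := hz
    rw [this, map_zero]
    exact Submodule.zero_mem _
  | succ q =>
    obtain ⟨y, hy, rfl⟩ := hz
    exact ⟨ι q y, (hG q y).mp hy, (hD q y).symm⟩

include hδ hΓ hinj hD hrange hG in
theorem mem_cobdy_of_iota_mem (q : ℕ) (z : Z q) (hz : ι q z ∈ cobdy δ Γ q) : z ∈ cobdy D G q := by
  cases q with
  | zero =>
    have : ι 0 z = 0 := hz
    have h0 : z = 0 := hinj 0 (this.trans (map_zero _).symm)
    rw [h0]
    exact Submodule.zero_mem _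
  | succ q =>
    obtain ⟨y, hy, hyz⟩ := hz
    -- take the degree `d` component of `y`
    have hzd : ι (q + 1) z ∈ 𝒳 (q + 1) d := (hrange (q + 1) _).mpr ⟨z, rfl⟩
    have hcomp := Groth.Agent.H98.decompose_map_shift (𝒳 q) (𝒳 (q + 1))
      ((δ q : X q →ₗ[B] X (q + 1)) : X q →+ X (q + 1)) 0
      (fun i x hx => by simpa using hδ q i x hx) y d
    rw [add_zero] at hcomp
    have h1 : δ q (DirectSum.decompose (𝒳 q) y d : X q) = ι (q + 1) z := by
      have : (δ q : X q →+ X (q + 1)) (DirectSum.decompose (𝒳 q) y d : X q) =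
          (DirectSum.decompose (𝒳 (q + 1)) (δ q y) d : X (q + 1)) := hcomp.symm
      rw [hyz, DirectSum.decompose_of_mem_same _ hzd] at this
      exact this
    obtain ⟨u, hu⟩ := (hrange q _).mp (SetLike.coe_mem (DirectSum.decompose (𝒳 q) y d))
    have huΓ : ι q u ∈ Γ q := by
      rw [hu]
      exact hΓ q d hy
    refine ⟨u, (hG q u).mpr huΓ, ?_⟩
    apply hinj (q + 1)
    rw [hD, hu, h1]

include hδ hΓ hinj hD hsm hrange hG in
/-- the comparison of the cohomologies -/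
theorem exists_piece_map (q : ℕ) :
    ∃ Θ : Hs D G q →+ Hs δ Γ q, Function.Injective Θ ∧
      (∀ (c : k) (z : Hs D G q), Θ (c • z) = algebraMap k B c • Θ z) ∧
      ∀ x : Hs δ Γ q, (∃ z, Θ z = x) ↔
        ∃ y : ↥(cocyc δ Γ q), (y : X q) ∈ 𝒳 q d ∧ Submodule.Quotient.mk y = x := by
  letI modk : ∀ n, Module k (X n) := fun n => Module.compHom (X n) (algebraMap k B)
  haveI : ∀ n, IsScalarTower k B (X n) := fun n =>
    IsScalarTower.of_algebraMap_smul (fun _ _ => rfl)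
  let θ0 : ↥(cocyc D G q) →ₗ[k] ↥(cocyc δ Γ q) :=
    { toFun := fun z => ⟨ι q z.1, iota_mem_cocyc D G δ Γ ι hD hG q z.1 z.2⟩
      map_add' := fun a b => Subtype.ext (map_add (ι q) a.1 b.1)
      map_smul' := fun c z => Subtype.ext (hsm q c z.1) }
  let mk' : ↥(cocyc δ Γ q) →ₗ[k] Hs δ Γ q :=
    ((cobdy δ Γ q).comap (cocyc δ Γ q).subtype).mkQ.restrictScalars k
  have hle : (cobdy D G q).comap (cocyc D G q).subtype ≤ LinearMap.ker (mk' ∘ₗ θ0) := by
    intro z hz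
    rw [LinearMap.mem_ker, LinearMap.comp_apply]
    change Submodule.Quotient.mk (θ0 z) = 0
    rw [Submodule.Quotient.mk_eq_zero]
    exact iota_mem_cobdy D G δ Γ ι hD hG q z.1 hz
  let Θ : Hs D G q →ₗ[k] Hs δ Γ q := Submodule.liftQ _ (mk' ∘ₗ θ0) hle
  have hΘ : ∀ z : ↥(cocyc D G q), Θ (Submodule.Quotient.mk z) = Submodule.Quotient.mk (θ0 z) :=
    fun z => rfl
  refine ⟨Θ.toAddMonoidHom, ?_, ?_, ?_⟩
  · rw [injective_iff_map_eq_zero]
    intro x hx
    obtain ⟨z, rfl⟩ := Submodule.Quotient.mk_surjective _ x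
    have h1 : Θ (Submodule.Quotient.mk z) = 0 := hx
    rw [hΘ, Submodule.Quotient.mk_eq_zero] at h1
    rw [Submodule.Quotient.mk_eq_zero]
    exact mem_cobdy_of_iota_mem D G 𝒳 δ hδ Γ hΓ d ι hinj hD hrange hG q z.1 h1
  · intro c x
    obtain ⟨z, rfl⟩ := Submodule.Quotient.mk_surjective _ x
    change Θ (c • Submodule.Quotient.mk z) = algebraMap k B c • Θ (Submodule.Quotient.mk z)
    rw [map_smul, hΘ]
    rfl
  · intro x
    constructor
    · rintro ⟨z, rfl⟩
      obtain ⟨z, rfl⟩ := Submodule.Quotient.mk_surjective _ z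
      exact ⟨θ0 z, (hrange q _).mpr ⟨z.1, rfl⟩, rfl⟩
    · rintro ⟨y, hy, rfl⟩
      obtain ⟨z, hz⟩ := (hrange q _).mp hy
      have hzc : z ∈ cocyc D G q := by
        refine ⟨(hG q z).mpr (hz ▸ y.2.1), ?_⟩
        change D q z = 0
        apply hinj (q + 1)
        rw [hD, hz, map_zero]
        exact y.2.2
      refine ⟨Submodule.Quotient.mk ⟨z, hzc⟩, ?_⟩
      change Θ (Submodule.Quotient.mk ⟨z, hzc⟩) = _
      rw [hΘ]
      congr 1
      exact Subtype.ext hz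

end Compare

end Groth.Agent.H81.Kun
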