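import Mathlib
import Groth.Agent.H81.Kun.Defs

set_option autoImplicit false
set_option linter.unusedSectionVars false
universe u

/-!
# Componentwise maps and componentwise submodules of the total complex
-/

namespace Groth.Agent.H81.Kun

open scoped TensorProduct

variable {k : Type u} [CommRing k]
variable {U : ℕ → Type u} [∀ a, AddCommGroup (U a)] [∀ a, Module k (U a)]
  {V : ℕ → Type u} [∀ b, AddCommGroup (V b)] [∀ b, Module k (V b)]
  {U' : ℕ → Type u} [∀ a, AddCommGroup (U' a)] [∀ a, Module k (U' a)]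
  {V' : ℕ → Type u} [∀ b, AddCommGroup (V' b)] [∀ b, Module k (V' b)]
variable (dU : ∀ a, U a →ₗ[k] U (a + 1)) (dV : ∀ b, V b →ₗ[k] V (b + 1))
  (dU' : ∀ a, U' a →ₗ[k] U' (a + 1)) (dV' : ∀ b, V' b →ₗ[k] V' (b + 1))

/-- a family of maps on the summands, applied componentwise -/
noncomputable def PiMap (Φ : ∀ a b, U a ⊗[k] V b →ₗ[k] U' a ⊗[k] V' b) (n : ℕ) :
    TotX k U V n →ₗ[k] TotX k U' V' n :=
  LinearMap.pi fun p => Φ p.1.1 p.1.2 ∘ₗ LinearMap.proj p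

theorem PiMap_apply (Φ : ∀ a b, U a ⊗[k] V b →ₗ[k] U' a ⊗[k] V' b) (n : ℕ)
    (w : TotX k U V n) (p : Idx n) : PiMap Φ n w p = Φ p.1.1 p.1.2 (w p) := rfl

theorem PiMap_inc (Φ : ∀ a b, U a ⊗[k] V b →ₗ[k] U' a ⊗[k] V' b) {a b n : ℕ} (h : a + b = n)
    (t : U a ⊗[k] V b) : PiMap Φ n (inc h t) = inc h (Φ a b t) := by
  funext p
  rw [PiMap_apply]
  by_cases hp : p = ⟨(a, b), h⟩
  · subst hp
    rw [inc_apply_same, inc_apply_same]
  · rw [inc_apply_ne h t p hp, inc_apply_ne h _ p hp, map_zero]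

theorem TotMap_eq_PiMap (f : ∀ a, U a →ₗ[k] U' a) (g : ∀ b, V b →ₗ[k] V' b) (n : ℕ) :
    TotMap f g n = PiMap (fun a b => TensorProduct.map (f a) (g b)) n := rfl

/-- a componentwise map commuting with the two partial differentials commutes with `TotD` -/
theorem PiMap_TotD (Φ : ∀ a b, U a ⊗[k] V b →ₗ[k] U' a ⊗[k] V' b)
    (h1 : ∀ a b t, Φ (a + 1) b ((dU a).rTensor (V b) t) = (dU' a).rTensor (V' b) (Φ a b t))
    (h2 : ∀ a b t, Φ a (b + 1) ((dV b).lTensor (U a) t) = (dV' b).lTensor (U' a) (Φ a b t))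
    (n : ℕ) (w : TotX k U V n) :
    PiMap Φ (n + 1) (TotD dU dV n w) = TotD dU' dV' n (PiMap Φ n w) := by
  rw [← sum_inc w, map_sum, map_sum, map_sum, map_sum]
  apply Finset.sum_congr rfl
  intro p _
  rw [TotD_inc, map_add, map_smul, PiMap_inc, PiMap_inc, PiMap_inc, TotD_inc, h1, h2]

/-- `inc` of an element of a componentwise family of submodules -/
theorem inc_mem (𝒲 : ∀ a b, Submodule k (U a ⊗[k] V b)) {a b n : ℕ} (h : a + b = n)
    {t : U a ⊗[k] V b} (ht : t ∈ 𝒲 a b) (q : Idx n) :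
    inc (k := k) (U := U) (V := V) h t q ∈ 𝒲 q.1.1 q.1.2 := by
  by_cases hq : q = ⟨(a, b), h⟩
  · subst hq
    rw [inc_apply_same]
    exact ht
  · rw [inc_apply_ne h t q hq]
    exact Submodule.zero_mem _

/-- `TotD` preserves componentwise families of submodules stable under the partial differentials -/
theorem TotD_mem (𝒲 : ∀ a b, Submodule k (U a ⊗[k] V b))
    (h1 : ∀ a b t, t ∈ 𝒲 a b → (dU a).rTensor (V b) t ∈ 𝒲 (a + 1) b)
    (h2 : ∀ a b t, t ∈ 𝒲 a b → (dV b).lTensor (U a) t ∈ 𝒲 a (b + 1))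
    (n : ℕ) (w : TotX k U V n) (hw : ∀ p, w p ∈ 𝒲 p.1.1 p.1.2) (q : Idx (n + 1)) :
    TotD dU dV n w q ∈ 𝒲 q.1.1 q.1.2 := by
  rw [← sum_inc w, map_sum, Finset.sum_apply]
  apply Submodule.sum_mem
  intro p _
  rw [TotD_inc, Pi.add_apply, Pi.smul_apply]
  exact Submodule.add_mem _ (inc_mem 𝒲 _ (h1 _ _ _ (hw p)) q)
    (Submodule.smul_mem _ _ (inc_mem 𝒲 _ (h2 _ _ _ (hw p)) q))

/-- componentwise maps preserve componentwise families -/
theorem PiMap_mem (Φ : ∀ a b, U a ⊗[k] V b →ₗ[k] U' a ⊗[k] V' b)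
    (𝒲 : ∀ a b, Submodule k (U a ⊗[k] V b)) (𝒲' : ∀ a b, Submodule k (U' a ⊗[k] V' b))
    (h : ∀ a b t, t ∈ 𝒲 a b → Φ a b t ∈ 𝒲' a b) (n : ℕ) (w : TotX k U V n)
    (hw : ∀ p, w p ∈ 𝒲 p.1.1 p.1.2) (q : Idx n) : PiMap Φ n w q ∈ 𝒲' q.1.1 q.1.2 :=
  h _ _ _ (hw q)

end Groth.Agent.H81.Kun
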