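import Mathlib
import Groth.Agent.H81.Kun.Defs

set_option autoImplicit false
set_option linter.unusedSectionVars false
universe u

/-!
# The connecting isomorphism for a surjection from a complex exact in positive degrees
-/

namespace Groth.Agent.H81.Kun

section Conn

variable {k : Type u} [Field k]
variable {X : ℕ → Type u} [∀ n, AddCommGroup (X n)] [∀ n, Module k (X n)]
  {Y : ℕ → Type u} [∀ n, AddCommGroup (Y n)] [∀ n, Module k (Y n)]
  (D : ∀ n, X n →ₗ[k] X (n + 1)) (E : ∀ n, Y n →ₗ[k] Y (n + 1))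
  (Q : ∀ n, X n →ₗ[k] Y n)
  (hD : ∀ n x, D (n + 1) (D n x) = 0)
  (hQ : ∀ n x, Q (n + 1) (D n x) = E n (Q n x))
  (hQs : ∀ n, Function.Surjective (Q n))

/-- the whole complex as a subcomplex -/
abbrev topSub (Y : ℕ → Type u) [∀ n, AddCommGroup (Y n)] [∀ n, Module k (Y n)] :
    ∀ n, Submodule k (Y n) := fun _ => ⊤

/-- the kernel subcomplex -/
abbrev kerSub : ∀ n, Submodule k (X n) := fun n => LinearMap.ker (Q n)

/-- elements of `X n` whose image in `Y n` is a cocycle -/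
def Zt (n : ℕ) : Submodule k (X n) := (LinearMap.ker (E n)).comap (Q n)

theorem mem_Zt {n : ℕ} {c : X n} : c ∈ Zt E Q n ↔ E n (Q n c) = 0 := Iff.rfl

include hQ in
theorem D_mem_ker_of_mem_Zt {n : ℕ} {c : X n} (hc : c ∈ Zt E Q n) :
    D n c ∈ kerSub Q (n + 1) := by
  rw [LinearMap.mem_ker, hQ]
  exact hc

/-- `c ↦ [Q c]` -/
noncomputable def alpha (n : ℕ) : Zt E Q n →ₗ[k] Hs E (topSub Y) n :=
  ((cobdy E (topSub Y) n).comap (cocyc E (topSub Y) n).subtype).mkQ ∘ₗ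
    ((Q n).comp (Zt E Q n).subtype).codRestrict (cocyc E (topSub Y) n)
      (fun c => ⟨Submodule.mem_top, c.2⟩)

include hQ hD in
/-- `c ↦ [D c]` -/
noncomputable def beta (n : ℕ) : Zt E Q n →ₗ[k] Hs D (kerSub Q) (n + 1) :=
  ((cobdy D (kerSub Q) (n + 1)).comap (cocyc D (kerSub Q) (n + 1)).subtype).mkQ ∘ₗ
    ((D n).comp (Zt E Q n).subtype).codRestrict (cocyc D (kerSub Q) (n + 1))
      (fun c => ⟨D_mem_ker_of_mem_Zt D E Q hQ c.2, hD n c.1⟩)

include hQs in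
theorem alpha_surjective (n : ℕ) : Function.Surjective (alpha E Q n) := by
  intro y
  obtain ⟨⟨z, hz⟩, rfl⟩ := Submodule.Quotient.mk_surjective _ y
  obtain ⟨c, rfl⟩ := hQs n z
  exact ⟨⟨c, hz.2⟩, rfl⟩

theorem beta_surjective (n : ℕ) (hex : LinearMap.ker (D (n + 1)) = LinearMap.range (D n)) :
    Function.Surjective (beta D E Q hD hQ n) := by
  intro y
  obtain ⟨⟨g, hg⟩, rfl⟩ := Submodule.Quotient.mk_surjective _ y
  have h1 : g ∈ LinearMap.ker (D (n + 1)) := hg.2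
  rw [hex] at h1
  obtain ⟨c, rfl⟩ := h1
  have hc : c ∈ Zt E Q n := by
    rw [mem_Zt, ← hQ]
    exact hg.1
  exact ⟨⟨c, hc⟩, rfl⟩

include hQ hQs in
theorem ker_alpha_succ (n : ℕ) (c : Zt E Q (n + 1)) :
    c ∈ LinearMap.ker (alpha E Q (n + 1)) ↔
      ∃ b : X n, (c : X (n + 1)) - D n b ∈ kerSub Q (n + 1) := by
  rw [LinearMap.mem_ker]
  change Submodule.Quotient.mk _ = 0 ↔ _
  rw [Submodule.Quotient.mk_eq_zero]
  change Q (n + 1) c.1 ∈ (topSub Y n).map (E n) ↔ _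
  constructor
  · rintro ⟨y, -, hy⟩
    obtain ⟨b, rfl⟩ := hQs n y
    refine ⟨b, ?_⟩
    rw [LinearMap.mem_ker, map_sub, hQ, hy, sub_self]
  · rintro ⟨b, hb⟩
    rw [LinearMap.mem_ker, map_sub, hQ, sub_eq_zero] at hb
    exact ⟨Q n b, Submodule.mem_top, hb.symm⟩

theorem ker_beta (n : ℕ) (c : Zt E Q n) :
    c ∈ LinearMap.ker (beta D E Q hD hQ n) ↔
      ∃ g ∈ kerSub Q n, D n ((c : X n) - g) = 0 := by
  rw [LinearMap.mem_ker]
  change Submodule.Quotient.mk _ = 0 ↔ _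
  rw [Submodule.Quotient.mk_eq_zero]
  change D n c.1 ∈ (kerSub Q n).map (D n) ↔ _
  constructor
  · rintro ⟨g, hg, hgc⟩
    exact ⟨g, hg, by rw [map_sub, hgc, sub_self]⟩
  · rintro ⟨g, hg, hgc⟩
    rw [map_sub, sub_eq_zero] at hgc
    exact ⟨g, hg, hgc.symm⟩

include hQs in
theorem ker_alpha_eq_ker_beta (n : ℕ)
    (hex : LinearMap.ker (D (n + 1)) = LinearMap.range (D n)) :
    LinearMap.ker (alpha E Q (n + 1)) = LinearMap.ker (beta D E Q hD hQ (n + 1)) := by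
  ext c
  rw [ker_alpha_succ D E Q hQ hQs, ker_beta]
  constructor
  · rintro ⟨b, hb⟩
    refine ⟨c.1 - D n b, hb, ?_⟩
    rw [sub_sub_cancel, hD]
  · rintro ⟨g, hg, hgc⟩
    have h1 : c.1 - g ∈ LinearMap.ker (D (n + 1)) := hgc
    rw [hex] at h1
    obtain ⟨b, hb⟩ := h1
    refine ⟨b, ?_⟩
    rw [hb, sub_sub_cancel]
    exact hg

include hD hQ hQs in
/-- **the connecting isomorphism** `H^{n+1}(Y) ≃ H^{n+2}(ker Q)` -/
theorem nonempty_conn_equiv (n : ℕ)
    (hex : LinearMap.ker (D (n + 1)) = LinearMap.range (D n))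
    (hex' : LinearMap.ker (D (n + 2)) = LinearMap.range (D (n + 1))) :
    Nonempty (Hs E (topSub Y) (n + 1) ≃ₗ[k] Hs D (kerSub Q) (n + 2)) := by
  have e1 := (alpha E Q (n + 1)).quotKerEquivOfSurjective (alpha_surjective E Q hQs (n + 1))
  have e2 := (beta D E Q hD hQ (n + 1)).quotKerEquivOfSurjective
    (beta_surjective D E Q hD hQ (n + 1) hex')
  have e3 := Submodule.quotEquivOfEq _ _ (ker_alpha_eq_ker_beta D E Q hD hQ hQs n hex)
  exact ⟨e1.symm.trans (e3.trans e2)⟩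

include hD hQ hQs in
theorem finrank_conn (n : ℕ)
    (hex : LinearMap.ker (D (n + 1)) = LinearMap.range (D n))
    (hex' : LinearMap.ker (D (n + 2)) = LinearMap.range (D (n + 1))) :
    Module.finrank k (Hs E (topSub Y) (n + 1)) = Module.finrank k (Hs D (kerSub Q) (n + 2)) := by
  obtain ⟨e⟩ := nonempty_conn_equiv D E Q hD hQ hQs n hex hex'
  exact e.finrank_eq

/-! ### degree zero -/

include hQ in
/-- `Q` on the `0`-cocycles -/
noncomputable def Qker0 : LinearMap.ker (D 0) →ₗ[k] LinearMap.ker (E 0) :=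
  (Q 0).restrict (fun x hx => by
    rw [LinearMap.mem_ker, ← hQ, LinearMap.mem_ker.mp hx, map_zero])

theorem Qker0_coe (x : LinearMap.ker (D 0)) : ((Qker0 D E Q hQ x : LinearMap.ker (E 0)) : Y 0) =
    Q 0 x.1 := rfl

include hD hQs in
theorem Qker0_bijective
    (h0 : ∀ x ∈ kerSub Q 0, D 0 x = 0 → x = 0)
    (h1 : ∀ x ∈ kerSub Q 1, D 1 x = 0 → ∃ y ∈ kerSub Q 0, D 0 y = x) :
    Function.Bijective (Qker0 D E Q hQ) := by
  constructor
  · rw [injective_iff_map_eq_zero]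
    intro x hx
    have hx' : Q 0 x.1 = 0 := congrArg Subtype.val hx
    exact Subtype.ext (h0 x.1 hx' x.2)
  · rintro ⟨y, hy⟩
    obtain ⟨c, rfl⟩ := hQs 0 y
    have hc : D 0 c ∈ kerSub Q 1 := by
      rw [LinearMap.mem_ker, hQ]
      exact hy
    obtain ⟨g, hg, hgc⟩ := h1 (D 0 c) hc (hD 0 c)
    refine ⟨⟨c - g, ?_⟩, Subtype.ext ?_⟩
    · rw [LinearMap.mem_ker, map_sub, hgc, sub_self]
    · change Q 0 (c - g) = Q 0 c
      rw [map_sub, LinearMap.mem_ker.mp hg, sub_zero]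

include hD in
theorem vanish_of_Qker0_bijective (hb : Function.Bijective (Qker0 D E Q hQ))
    (hex : LinearMap.ker (D 1) = LinearMap.range (D 0)) :
    (∀ x ∈ kerSub Q 0, D 0 x = 0 → x = 0) ∧
      (∀ x ∈ kerSub Q 1, D 1 x = 0 → ∃ y ∈ kerSub Q 0, D 0 y = x) := by
  constructor
  · intro x hx hdx
    have h1 : Qker0 D E Q hQ ⟨x, hdx⟩ = 0 := Subtype.ext hx
    have h2 := hb.1 (h1.trans (map_zero _).symm)
    exact congrArg Subtype.val h2
  · intro x hx hdx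
    have h1 : x ∈ LinearMap.ker (D 1) := hdx
    rw [hex] at h1
    obtain ⟨c, rfl⟩ := h1
    have hc : E 0 (Q 0 c) = 0 := by
      rw [← hQ]
      exact hx
    obtain ⟨z, hz⟩ := hb.2 ⟨Q 0 c, hc⟩
    have hz' : Q 0 z.1 = Q 0 c := congrArg Subtype.val hz
    refine ⟨c - z.1, ?_, ?_⟩
    · rw [LinearMap.mem_ker, map_sub, hz', sub_self]
    · rw [map_sub, LinearMap.mem_ker.mp z.2, sub_zero]

/-- `H^0` of a whole complex is the kernel of the first differential -/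
noncomputable def Hs_top_zero_equiv : Hs E (topSub Y) 0 ≃ₗ[k] LinearMap.ker (E 0) :=
  (Submodule.quotEquivOfEqBot _ (by
    change (⊥ : Submodule k (Y 0)).comap (cocyc E (topSub Y) 0).subtype = ⊥
    rw [Submodule.comap_bot, Submodule.ker_subtype])).trans
    (LinearEquiv.ofEq _ _ (by
      change (⊤ : Submodule k (Y 0)) ⊓ LinearMap.ker (E 0) = LinearMap.ker (E 0)
      rw [top_inf_eq]))

include hD hQ hQs in
theorem finrank_conn_zero
    (h0 : ∀ x ∈ kerSub Q 0, D 0 x = 0 → x = 0)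
    (h1 : ∀ x ∈ kerSub Q 1, D 1 x = 0 → ∃ y ∈ kerSub Q 0, D 0 y = x) :
    Module.finrank k (Hs E (topSub Y) 0) = Module.finrank k (LinearMap.ker (D 0)) := by
  rw [(Hs_top_zero_equiv E).finrank_eq]
  exact (LinearEquiv.ofBijective _ (Qker0_bijective D E Q hD hQ hQs h0 h1)).finrank_eq.symm

/-- vanishing of a cohomology group of a subcomplex -/
theorem Hs_subsingleton_zero {G : ∀ n, Submodule k (X n)}
    (h0 : ∀ x ∈ G 0, D 0 x = 0 → x = 0) : Subsingleton (Hs D G 0) := by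
  refine ⟨fun a b => ?_⟩
  obtain ⟨⟨x, hx⟩, rfl⟩ := Submodule.Quotient.mk_surjective _ a
  obtain ⟨⟨y, hy⟩, rfl⟩ := Submodule.Quotient.mk_surjective _ b
  have e1 : x = 0 := h0 x hx.1 hx.2
  have e2 : y = 0 := h0 y hy.1 hy.2
  subst e1 e2
  rfl

theorem Hs_subsingleton_succ {G : ∀ n, Submodule k (X n)} (n : ℕ)
    (h1 : ∀ x ∈ G (n + 1), D (n + 1) x = 0 → ∃ y ∈ G n, D n y = x) :
    Subsingleton (Hs D G (n + 1)) := by
  have key : ∀ a : Hs D G (n + 1), a = 0 := by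
    intro a
    obtain ⟨⟨x, hx⟩, rfl⟩ := Submodule.Quotient.mk_surjective _ a
    rw [Submodule.Quotient.mk_eq_zero]
    obtain ⟨y, hy, hyx⟩ := h1 x hx.1 hx.2
    exact ⟨y, hy, hyx⟩
  exact ⟨fun a b => (key a).trans (key b).symm⟩

end Conn

end Groth.Agent.H81.Kun
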