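import Mathlib
import Groth.Agent.H81.Kun.Defs
import Groth.Agent.H98.Kun.TopKun

set_option autoImplicit false
set_option linter.unusedSectionVars false
universe u

/-!
# Induced maps on the cohomology of subcomplexes, and naturality of the top Künneth isomorphism
-/

namespace Groth.Agent.H81.Kun

open scoped TensorProduct
open Groth.Agent.H98.Kun

section HsMap

variable {k : Type u} [CommRing k]
variable {X Y : ℕ → Type u} [∀ n, AddCommGroup (X n)] [∀ n, Module k (X n)]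
  [∀ n, AddCommGroup (Y n)] [∀ n, Module k (Y n)]
  (D : ∀ n, X n →ₗ[k] X (n + 1)) (G : ∀ n, Submodule k (X n))
  (D' : ∀ n, Y n →ₗ[k] Y (n + 1)) (G' : ∀ n, Submodule k (Y n))
  (F : ∀ n, X n →ₗ[k] Y n) (hF : ∀ n x, F (n + 1) (D n x) = D' n (F n x))
  (hG : ∀ n x, x ∈ G n → F n x ∈ G' n)

include hF hG in
theorem map_mem_cocyc (q : ℕ) (z : X q) (hz : z ∈ cocyc D G q) : F q z ∈ cocyc D' G' q := by
  refine ⟨hG q z hz.1, ?_⟩
  change D' q (F q z) = 0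
  have h2 : D q z = 0 := hz.2
  rw [← hF, h2, map_zero]

include hF hG in
theorem map_mem_cobdy (q : ℕ) (z : X q) (hz : z ∈ cobdy D G q) : F q z ∈ cobdy D' G' q := by
  cases q with
  | zero =>
    have : z = 0 := hz
    rw [this, map_zero]
    exact Submodule.zero_mem _
  | succ q =>
    obtain ⟨y, hy, rfl⟩ := hz
    exact ⟨F q y, hG q y hy, (hF q y).symm⟩

/-- the induced map on the cohomology of the subcomplexes -/
noncomputable def HsMap (q : ℕ) : Hs D G q →ₗ[k] Hs D' G' q :=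
  Submodule.mapQ _ _ ((F q).restrict (fun z hz => map_mem_cocyc D G D' G' F hF hG q z hz))
    (fun z hz => map_mem_cobdy D G D' G' F hF hG q z.1 hz)

theorem HsMap_mk (q : ℕ) (z : ↥(cocyc D G q)) :
    HsMap D G D' G' F hF hG q (Submodule.Quotient.mk z) =
      Submodule.Quotient.mk ⟨F q z.1, map_mem_cocyc D G D' G' F hF hG q z.1 z.2⟩ := rfl

end HsMap

section Natural

variable {k : Type u} [Field k] {U : ℕ → Type u} [∀ a, AddCommGroup (U a)] [∀ a, Module k (U a)]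
  {V : ℕ → Type u} [∀ b, AddCommGroup (V b)] [∀ b, Module k (V b)]
  (dU : ∀ a, U a →ₗ[k] U (a + 1)) (dV : ∀ b, V b →ₗ[k] V (b + 1))
  (hdU : ∀ a x, dU (a + 1) (dU a x) = 0) (hdV : ∀ b y, dV (b + 1) (dV b y) = 0)
  (U' : ∀ a, Submodule k (U a)) (V' : ∀ b, Submodule k (V b))
  (f : ∀ a, U a →ₗ[k] U a) (hf : ∀ a x, f (a + 1) (dU a x) = dU a (f a x))
  (hf' : ∀ a x, x ∈ U' a → f a x ∈ U' a)
  (g : ∀ b, V b →ₗ[k] V b) (hg : ∀ b y, g (b + 1) (dV b y) = dV b (g b y))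
  (hg' : ∀ b y, y ∈ V' b → g b y ∈ V' b)

include hf' hg' in
/-- `Tot(f ⊗ g)` preserves `GG` -/
theorem TotMap_mem_GG (n : ℕ) (w : TotX k U V n) (hw : w ∈ GG U' V' n) :
    TotMap f g n w ∈ GG U' V' n := by
  rw [LinearMap.mem_ker] at hw ⊢
  let fq : ∀ a, (U a ⧸ U' a) →ₗ[k] (U a ⧸ U' a) := fun a =>
    Submodule.mapQ _ _ (f a) (fun x hx => hf' a x hx)
  let gq : ∀ b, (V b ⧸ V' b) →ₗ[k] (V b ⧸ V' b) := fun b =>
    Submodule.mapQ _ _ (g b) (fun y hy => hg' b y hy)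
  have h1 : TotMap (fun a => (U' a).mkQ) (fun b => (V' b).mkQ) n (TotMap f g n w) =
      TotMap fq gq n (TotMap (fun a => (U' a).mkQ) (fun b => (V' b).mkQ) n w) := by
    rw [TotMap_comp, TotMap_comp]
    rfl
  rw [h1, hw, map_zero]

variable {a b M : ℕ} (hM : a + b + 1 = M)

include hf hf' hg hg' hdU hdV in
/-- naturality of the top Künneth map with respect to pairs of chain maps -/
theorem Psi_natural (hexU : ∀ a, LinearMap.ker (dU (a + 1)) = LinearMap.range (dU a))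
    (hexV : ∀ b, LinearMap.ker (dV (b + 1)) = LinearMap.range (dV b))
    (Ψ : Hs dU U' (a + 2) ⊗[k] Hs dV V' (b + 2) →ₗ[k] Hs (TotD dU dV) (GG U' V') (M + 1 + 1))
    (hΨ : ∀ (ξ : U (a + 1)) (η : V (b + 1)) (h1 : dU (a + 1) ξ ∈ cocyc dU U' (a + 2))
      (h2 : dV (b + 1) η ∈ cocyc dV V' (b + 2))
      (h3 : TotD dU dV (M + 1) (inc (show a + 1 + (b + 1) = M + 1 by omega) (ξ ⊗ₜ[k] η)) ∈
        cocyc (TotD dU dV) (GG U' V') (M + 1 + 1)),
      Ψ ((Submodule.Quotient.mk ⟨dU (a + 1) ξ, h1⟩ : Hs dU U' (a + 2)) ⊗ₜ[k]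
        (Submodule.Quotient.mk ⟨dV (b + 1) η, h2⟩ : Hs dV V' (b + 2))) =
        Submodule.Quotient.mk ⟨_, h3⟩)
    (z : Hs dU U' (a + 2) ⊗[k] Hs dV V' (b + 2)) :
    Ψ (TensorProduct.map (HsMap dU U' dU U' f hf hf' (a + 2))
        (HsMap dV V' dV V' g hg hg' (b + 2)) z) =
      HsMap (TotD dU dV) (GG U' V') (TotD dU dV) (GG U' V') (TotMap f g)
        (fun n w => TotMap_TotD dU dV f g dU dV hf hg n w)
        (fun n w hw => TotMap_mem_GG U' V' f hf' g hg' n w hw) (M + 1 + 1) (Ψ z) := by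
  have key : Ψ ∘ₗ TensorProduct.map (HsMap dU U' dU U' f hf hf' (a + 2))
        (HsMap dV V' dV V' g hg hg' (b + 2)) =
      HsMap (TotD dU dV) (GG U' V') (TotD dU dV) (GG U' V') (TotMap f g)
        (fun n w => TotMap_TotD dU dV f g dU dV hf hg n w)
        (fun n w hw => TotMap_mem_GG U' V' f hf' g hg' n w hw) (M + 1 + 1) ∘ₗ Ψ := by
    apply TensorProduct.ext'
    intro x y
    obtain ⟨⟨x0, hx1, hx2⟩, rfl⟩ := Submodule.Quotient.mk_surjective _ x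
    obtain ⟨⟨y0, hy1, hy2⟩, rfl⟩ := Submodule.Quotient.mk_surjective _ y
    have hx2' := hx2
    have hy2' := hy2
    rw [hexU (a + 1)] at hx2'
    rw [hexV (b + 1)] at hy2'
    obtain ⟨ξ, rfl⟩ := hx2'
    obtain ⟨η, rfl⟩ := hy2'
    have hc : TotD dU dV (M + 1) (inc (show a + 1 + (b + 1) = M + 1 by omega) (ξ ⊗ₜ[k] η)) ∈
        cocyc (TotD dU dV) (GG U' V') (M + 1 + 1) :=
      D_inc_mem_cocyc dU dV hdU hdV U' V' hM ξ η hx1 hy1
    rw [LinearMap.comp_apply, LinearMap.comp_apply, TensorProduct.map_tmul, HsMap_mk, HsMap_mk,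
      hΨ ξ η ⟨hx1, hx2⟩ ⟨hy1, hy2⟩ hc, HsMap_mk]
    have e1 : f (a + 1 + 1) (dU (a + 1) ξ) = dU (a + 1) (f (a + 1) ξ) := hf (a + 1) ξ
    have e2 : g (b + 1 + 1) (dV (b + 1) η) = dV (b + 1) (g (b + 1) η) := hg (b + 1) η
    have hfx : dU (a + 1) (f (a + 1) ξ) ∈ cocyc dU U' (a + 2) := by
      rw [← e1]
      exact map_mem_cocyc dU U' dU U' f hf hf' (a + 2) _ ⟨hx1, hx2⟩
    have hgy : dV (b + 1) (g (b + 1) η) ∈ cocyc dV V' (b + 2) := by
      rw [← e2]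
      exact map_mem_cocyc dV V' dV V' g hg hg' (b + 2) _ ⟨hy1, hy2⟩
    have hc' : TotD dU dV (M + 1) (inc (show a + 1 + (b + 1) = M + 1 by omega)
        (f (a + 1) ξ ⊗ₜ[k] g (b + 1) η)) ∈ cocyc (TotD dU dV) (GG U' V') (M + 1 + 1) :=
      D_inc_mem_cocyc dU dV hdU hdV U' V' hM _ _ hfx.1 hgy.1
    have e3 : (Submodule.Quotient.mk
        (⟨f (a + 2) (dU (a + 1) ξ), map_mem_cocyc dU U' dU U' f hf hf' (a + 2) _ ⟨hx1, hx2⟩⟩ :
          ↥(cocyc dU U' (a + 2))) : Hs dU U' (a + 2)) =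
        Submodule.Quotient.mk ⟨dU (a + 1) (f (a + 1) ξ), hfx⟩ := by
      congr 1
      exact Subtype.ext e1
    have e4 : (Submodule.Quotient.mk
        (⟨g (b + 2) (dV (b + 1) η), map_mem_cocyc dV V' dV V' g hg hg' (b + 2) _ ⟨hy1, hy2⟩⟩ :
          ↥(cocyc dV V' (b + 2))) : Hs dV V' (b + 2)) =
        Submodule.Quotient.mk ⟨dV (b + 1) (g (b + 1) η), hgy⟩ := by
      congr 1
      exact Subtype.ext e2
    rw [e3, e4, hΨ _ _ hfx hgy hc']
    congr 1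
    apply Subtype.ext
    change TotD dU dV (M + 1) (inc _ (f (a + 1) ξ ⊗ₜ[k] g (b + 1) η)) =
      TotMap f g (M + 1 + 1) (TotD dU dV (M + 1) (inc _ (ξ ⊗ₜ[k] η)))
    rw [TotMap_TotD dU dV f g dU dV hf hg, TotMap_inc, TensorProduct.map_tmul]
  exact LinearMap.congr_fun key z

end Natural

end Groth.Agent.H81.Kun
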