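import Mathlib
import Groth.Agent.H81.Kun.Defs

set_option autoImplicit false
set_option linter.unusedSectionVars false
universe u

/-!
# Contracting homotopies for complexes of vector spaces exact in positive degrees
-/

namespace Groth.Agent.H81.Kun

open scoped TensorProduct

section Ginv

variable {k : Type u} [Field k] {X Y : Type u} [AddCommGroup X] [Module k X]
  [AddCommGroup Y] [Module k Y]

/-- every linear map of vector spaces has a generalized inverse -/
theorem exists_ginv (f : X →ₗ[k] Y) : ∃ g : Y →ₗ[k] X, ∀ x, f (g (f x)) = f x := by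
  obtain ⟨s, hs⟩ := LinearMap.exists_rightInverse_of_surjective f.rangeRestrict
    (LinearMap.range_rangeRestrict f)
  obtain ⟨r, hr⟩ := LinearMap.exists_leftInverse_of_injective (LinearMap.range f).subtype
    (LinearMap.ker_eq_bot.mpr (Submodule.injective_subtype _))
  refine ⟨s ∘ₗ r, fun x => ?_⟩
  have h1 : r (f x) = ⟨f x, LinearMap.mem_range_self f x⟩ := by
    have := LinearMap.congr_fun hr ⟨f x, LinearMap.mem_range_self f x⟩
    exact this
  have h2 : ∀ y, f.rangeRestrict (s y) = y := fun y => LinearMap.congr_fun hs y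
  rw [LinearMap.comp_apply, h1]
  have := congrArg Subtype.val (h2 ⟨f x, LinearMap.mem_range_self f x⟩)
  exact this

end Ginv

section Hodge

variable {k : Type u} [Field k]
variable {U : ℕ → Type u} [∀ a, AddCommGroup (U a)] [∀ a, Module k (U a)]
  (dU : ∀ a, U a →ₗ[k] U (a + 1))

/-- contracting homotopy of a complex exact in positive degrees -/
theorem exists_hodge (hd : ∀ a x, dU (a + 1) (dU a x) = 0)
    (hex : ∀ a, LinearMap.ker (dU (a + 1)) = LinearMap.range (dU a)) :
    ∃ (h : ∀ a, U (a + 1) →ₗ[k] U a) (π : U 0 →ₗ[k] U 0),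
      (∀ a x, dU a (h a x) + h (a + 1) (dU (a + 1) x) = x) ∧
      (∀ x, h 0 (dU 0 x) = x - π x) ∧ (∀ x, dU 0 (π x) = 0) := by
  choose g hg using fun a => exists_ginv (dU a)
  let h : ∀ a, U (a + 1) →ₗ[k] U a := fun a => g a ∘ₗ (LinearMap.id - g (a + 1) ∘ₗ dU (a + 1))
  have hh : ∀ a x, h a x = g a (x - g (a + 1) (dU (a + 1) x)) := fun a x => rfl
  have hhd : ∀ a x, h a (dU a x) = g a (dU a x) := by
    intro a x
    rw [hh, hd, map_zero, sub_zero]
  refine ⟨h, LinearMap.id - g 0 ∘ₗ dU 0, ?_, ?_, ?_⟩
  · intro a x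
    rw [hhd, hh]
    have hker : x - g (a + 1) (dU (a + 1) x) ∈ LinearMap.ker (dU (a + 1)) := by
      rw [LinearMap.mem_ker, map_sub, hg, sub_self]
    rw [hex a] at hker
    obtain ⟨y, hy⟩ := hker
    rw [← hy, hg, hy]
    abel
  · intro x
    rw [hhd]
    simp only [LinearMap.sub_apply, LinearMap.id_apply, LinearMap.comp_apply]
    abel
  · intro x
    simp only [LinearMap.sub_apply, LinearMap.id_apply, LinearMap.comp_apply]
    rw [map_sub, hg, sub_self]

end Hodge

end Groth.Agent.H81.Kun
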