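import Mathlib
import Groth.Agent.H81.Kun.Hodge

set_option autoImplicit false
set_option linter.unusedSectionVars false
universe u

/-!
# The total complex of two resolutions is a resolution
-/

namespace Groth.Agent.H81.Kun

open scoped TensorProduct

section Shift

variable {k : Type u} [CommRing k]
variable {U : ℕ → Type u} [∀ a, AddCommGroup (U a)] [∀ a, Module k (U a)]
  {V : ℕ → Type u} [∀ b, AddCommGroup (V b)] [∀ b, Module k (V b)]

/-- the shift `hU ⊗ 1` -/
noncomputable def shL (hU : ∀ a, U (a + 1) →ₗ[k] U a) (n : ℕ) :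
    TotX k U V (n + 1) →ₗ[k] TotX k U V n :=
  LinearMap.pi fun p : Idx n => (hU p.1.1).rTensor (V p.1.2) ∘ₗ
    LinearMap.proj (⟨(p.1.1 + 1, p.1.2), by have := p.2; omega⟩ : Idx (n + 1))

theorem shL_apply (hU : ∀ a, U (a + 1) →ₗ[k] U a) (n : ℕ) (w : TotX k U V (n + 1)) (p : Idx n) :
    shL (V := V) hU n w p = (hU p.1.1).rTensor (V p.1.2)
      (w (⟨(p.1.1 + 1, p.1.2), by have := p.2; omega⟩ : Idx (n + 1))) := rfl

theorem shL_inc_succ (hU : ∀ a, U (a + 1) →ₗ[k] U a) {a b n : ℕ} (h : a + b = n)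
    (h' : a + 1 + b = n + 1) (t : U (a + 1) ⊗[k] V b) :
    shL hU n (inc h' t) = inc h ((hU a).rTensor (V b) t) := by
  funext p
  rw [shL_apply]
  by_cases hp : p = ⟨(a, b), h⟩
  · subst hp
    rw [inc_apply_same, inc_apply_same]
  · rw [inc_apply_ne h _ p hp, inc_apply_ne h' t, map_zero]
    intro hq
    apply hp
    have h1 := congrArg (fun q : Idx (n + 1) => q.1.1) hq
    have h2 := congrArg (fun q : Idx (n + 1) => q.1.2) hq
    simp only at h1 h2
    apply Subtype.ext
    apply Prod.ext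
    · exact Nat.succ_injective h1
    · exact h2

theorem shL_inc_zero (hU : ∀ a, U (a + 1) →ₗ[k] U a) {b n : ℕ}
    (h' : 0 + b = n + 1) (t : U 0 ⊗[k] V b) :
    shL hU n (inc h' t) = 0 := by
  funext p
  rw [shL_apply, inc_apply_ne h' t, map_zero]
  · rfl
  · intro hq
    have h1 := congrArg (fun q : Idx (n + 1) => q.1.1) hq
    simp only at h1
    omega

/-- the shift `π ⊗ hV` -/
noncomputable def shR (πs : ∀ a, U a →ₗ[k] U a) (hV : ∀ b, V (b + 1) →ₗ[k] V b) (n : ℕ) :
    TotX k U V (n + 1) →ₗ[k] TotX k U V n :=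
  LinearMap.pi fun p : Idx n => TensorProduct.map (πs p.1.1) (hV p.1.2) ∘ₗ
    LinearMap.proj (⟨(p.1.1, p.1.2 + 1), by have := p.2; omega⟩ : Idx (n + 1))

theorem shR_apply (πs : ∀ a, U a →ₗ[k] U a) (hV : ∀ b, V (b + 1) →ₗ[k] V b) (n : ℕ)
    (w : TotX k U V (n + 1)) (p : Idx n) :
    shR πs hV n w p = TensorProduct.map (πs p.1.1) (hV p.1.2)
      (w (⟨(p.1.1, p.1.2 + 1), by have := p.2; omega⟩ : Idx (n + 1))) := rfl

theorem shR_inc_succ (πs : ∀ a, U a →ₗ[k] U a) (hV : ∀ b, V (b + 1) →ₗ[k] V b) {a b n : ℕ}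
    (h : a + b = n) (h' : a + (b + 1) = n + 1) (t : U a ⊗[k] V (b + 1)) :
    shR πs hV n (inc h' t) = inc h (TensorProduct.map (πs a) (hV b) t) := by
  funext p
  rw [shR_apply]
  by_cases hp : p = ⟨(a, b), h⟩
  · subst hp
    rw [inc_apply_same, inc_apply_same]
  · rw [inc_apply_ne h _ p hp, inc_apply_ne h' t, map_zero]
    intro hq
    apply hp
    have h1 := congrArg (fun q : Idx (n + 1) => q.1.1) hq
    have h2 := congrArg (fun q : Idx (n + 1) => q.1.2) hq
    simp only at h1 h2
    apply Subtype.ext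
    apply Prod.ext
    · exact h1
    · exact Nat.succ_injective h2

theorem shR_inc_zero (πs : ∀ a, U a →ₗ[k] U a) (hV : ∀ b, V (b + 1) →ₗ[k] V b) {a n : ℕ}
    (h' : a + 0 = n + 1) (t : U a ⊗[k] V 0) :
    shR πs hV n (inc h' t) = 0 := by
  funext p
  rw [shR_apply, inc_apply_ne h' t, map_zero]
  · rfl
  · intro hq
    have h2 := congrArg (fun q : Idx (n + 1) => q.1.2) hq
    simp only at h2
    omega

/-- the family `π, 0, 0, …` -/
def piFam (π : U 0 →ₗ[k] U 0) : ∀ a, U a →ₗ[k] U a
  | 0 => π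
  | _ + 1 => 0

theorem piFam_zero (π : U 0 →ₗ[k] U 0) : piFam π 0 = π := rfl

theorem piFam_succ (π : U 0 →ₗ[k] U 0) (a : ℕ) : piFam π (a + 1) = 0 := rfl

end Shift

section Homotopy

variable {k : Type u} [CommRing k]
variable {U : ℕ → Type u} [∀ a, AddCommGroup (U a)] [∀ a, Module k (U a)]
  {V : ℕ → Type u} [∀ b, AddCommGroup (V b)] [∀ b, Module k (V b)]
  (dU : ∀ a, U a →ₗ[k] U (a + 1)) (dV : ∀ b, V b →ₗ[k] V (b + 1))
  (hU : ∀ a, U (a + 1) →ₗ[k] U a) (πU : U 0 →ₗ[k] U 0)
  (hV : ∀ b, V (b + 1) →ₗ[k] V b) (πV : V 0 →ₗ[k] V 0)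

/-- the total contracting homotopy -/
noncomputable def Htot (n : ℕ) : TotX k U V (n + 1) →ₗ[k] TotX k U V n :=
  shL hU n + shR (piFam πU) hV n

theorem Htot_apply (n : ℕ) (w : TotX k U V (n + 1)) :
    Htot hU πU hV n w = shL hU n w + shR (piFam πU) hV n w := rfl

variable (h1U : ∀ a x, dU a (hU a x) + hU (a + 1) (dU (a + 1) x) = x)
  (h2U : ∀ x, hU 0 (dU 0 x) = x - πU x) (h3U : ∀ x, dU 0 (πU x) = 0)
  (h1V : ∀ b y, dV b (hV b y) + hV (b + 1) (dV (b + 1) y) = y)
  (h2V : ∀ y, hV 0 (dV 0 y) = y - πV y)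

include h1U h2U h3U h1V in
theorem homotopy_succ (n : ℕ) (w : TotX k U V (n + 1)) :
    TotD dU dV n (Htot hU πU hV n w) + Htot hU πU hV (n + 1) (TotD dU dV (n + 1) w) = w := by
  have key : TotD dU dV n ∘ₗ Htot hU πU hV n + Htot hU πU hV (n + 1) ∘ₗ TotD dU dV (n + 1) =
      LinearMap.id := by
    apply hom_ext
    intro a b hab x y
    rw [LinearMap.add_apply, LinearMap.comp_apply, LinearMap.comp_apply, LinearMap.id_apply]
    cases a with
    | zero =>
      obtain rfl : b = n + 1 := by omega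
      have e1 : Htot hU πU hV n (inc hab (x ⊗ₜ[k] y)) =
          inc (show 0 + n = n by omega) (πU x ⊗ₜ[k] hV n y) := by
        rw [Htot_apply, shL_inc_zero, shR_inc_succ (piFam πU) hV (show 0 + n = n by omega),
          TensorProduct.map_tmul, piFam_zero]
        exact zero_add _
      have e2 : TotD dU dV n (inc (show 0 + n = n by omega) (πU x ⊗ₜ[k] hV n y)) =
          inc hab (πU x ⊗ₜ[k] dV n (hV n y)) := by
        rw [TotD_inc_tmul, h3U, TensorProduct.zero_tmul, map_zero, pow_zero, one_smul]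
        exact zero_add _
      have e3 : Htot hU πU hV (n + 1)
          (inc (show 0 + 1 + (n + 1) = n + 1 + 1 by omega) (dU 0 x ⊗ₜ[k] y)) =
          inc hab ((x - πU x) ⊗ₜ[k] y) := by
        rw [Htot_apply, shL_inc_succ hU hab,
          shR_inc_succ (piFam πU) hV (show 0 + 1 + n = n + 1 by omega),
          TensorProduct.map_tmul, LinearMap.rTensor_tmul, h2U]
        have h0 : piFam πU (0 + 1) = 0 := rfl
        rw [h0, LinearMap.zero_apply, TensorProduct.zero_tmul, map_zero]
        exact add_zero _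
      have e4 : Htot hU πU hV (n + 1)
          (inc (show 0 + (n + 1 + 1) = n + 1 + 1 by omega) (x ⊗ₜ[k] dV (n + 1) y)) =
          inc hab (πU x ⊗ₜ[k] hV (n + 1) (dV (n + 1) y)) := by
        rw [Htot_apply, shL_inc_zero, shR_inc_succ (piFam πU) hV hab,
          TensorProduct.map_tmul, piFam_zero]
        exact zero_add _
      rw [e1, e2, TotD_inc_tmul, map_add, map_smul, e3, e4, pow_zero, one_smul, ← map_add,
        ← map_add]
      congr 1
      rw [TensorProduct.sub_tmul]
      have := h1V n y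
      calc πU x ⊗ₜ[k] dV n (hV n y) + ((x ⊗ₜ[k] y - πU x ⊗ₜ[k] y) +
            πU x ⊗ₜ[k] hV (n + 1) (dV (n + 1) y))
          = πU x ⊗ₜ[k] (dV n (hV n y) + hV (n + 1) (dV (n + 1) y)) +
              (x ⊗ₜ[k] y - πU x ⊗ₜ[k] y) := by rw [TensorProduct.tmul_add]; abel
        _ = x ⊗ₜ[k] y := by rw [this]; abel
    | succ a =>
      have hab' : a + b = n := by omega
      have e1 : Htot hU πU hV n (inc hab (x ⊗ₜ[k] y)) = inc hab' (hU a x ⊗ₜ[k] y) := by
        rw [Htot_apply, shL_inc_succ hU hab', LinearMap.rTensor_tmul]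
        have h0 : shR (piFam πU) hV n (inc hab (x ⊗ₜ[k] y)) = 0 := by
          cases b with
          | zero => exact shR_inc_zero _ _ hab _
          | succ b =>
            rw [shR_inc_succ (piFam πU) hV (show a + 1 + b = n by omega), TensorProduct.map_tmul,
              piFam_succ, LinearMap.zero_apply, TensorProduct.zero_tmul, map_zero]
        rw [h0]
        exact add_zero _
      have e2 : TotD dU dV n (inc hab' (hU a x ⊗ₜ[k] y)) =
          inc hab (dU a (hU a x) ⊗ₜ[k] y) +
            ((-1 : k) ^ a) • inc (show a + (b + 1) = n + 1 by omega) (hU a x ⊗ₜ[k] dV b y) := by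
        rw [TotD_inc_tmul]
      have e3 : Htot hU πU hV (n + 1)
          (inc (show a + 1 + 1 + b = n + 1 + 1 by omega) (dU (a + 1) x ⊗ₜ[k] y)) =
          inc hab (hU (a + 1) (dU (a + 1) x) ⊗ₜ[k] y) := by
        rw [Htot_apply, shL_inc_succ hU hab, LinearMap.rTensor_tmul]
        have h0 : shR (piFam πU) hV (n + 1)
            (inc (show a + 1 + 1 + b = n + 1 + 1 by omega) (dU (a + 1) x ⊗ₜ[k] y)) = 0 := by
          cases b with
          | zero => exact shR_inc_zero _ _ _ _
          | succ b =>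
            rw [shR_inc_succ (piFam πU) hV (show a + 1 + 1 + b = n + 1 by omega),
              TensorProduct.map_tmul, piFam_succ, LinearMap.zero_apply, TensorProduct.zero_tmul,
              map_zero]
        rw [h0]
        exact add_zero _
      have e4 : Htot hU πU hV (n + 1)
          (inc (show a + 1 + (b + 1) = n + 1 + 1 by omega) (x ⊗ₜ[k] dV b y)) =
          inc (show a + (b + 1) = n + 1 by omega) (hU a x ⊗ₜ[k] dV b y) := by
        rw [Htot_apply, shL_inc_succ hU (show a + (b + 1) = n + 1 by omega),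
          LinearMap.rTensor_tmul,
          shR_inc_succ (piFam πU) hV hab, TensorProduct.map_tmul,
          piFam_succ, LinearMap.zero_apply, TensorProduct.zero_tmul, map_zero]
        exact add_zero _
      rw [e1, e2, TotD_inc_tmul, map_add, map_smul, e3, e4, pow_succ, mul_neg_one, neg_smul]
      have := h1U a x
      calc inc hab (dU a (hU a x) ⊗ₜ[k] y) +
            (-1 : k) ^ a • inc (show a + (b + 1) = n + 1 by omega) (hU a x ⊗ₜ[k] dV b y) +
            (inc hab (hU (a + 1) (dU (a + 1) x) ⊗ₜ[k] y) +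
              -((-1 : k) ^ a • inc (show a + (b + 1) = n + 1 by omega) (hU a x ⊗ₜ[k] dV b y)))
          = inc hab ((dU a (hU a x) + hU (a + 1) (dU (a + 1) x)) ⊗ₜ[k] y) := by
            rw [TensorProduct.add_tmul, map_add]; abel
        _ = inc hab (x ⊗ₜ[k] y) := by rw [this]
  exact LinearMap.congr_fun key w

include h2U h2V in
theorem homotopy_zero (w : TotX k U V 0) :
    Htot hU πU hV 0 (TotD dU dV 0 w) =
      w - inc (show 0 + 0 = 0 from rfl) (TensorProduct.map πU πV (w ⟨(0, 0), rfl⟩)) := by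
  have key : Htot hU πU hV 0 ∘ₗ TotD dU dV 0 =
      LinearMap.id - inc (k := k) (U := U) (V := V) (show 0 + 0 = 0 from rfl) ∘ₗ
        TensorProduct.map πU πV ∘ₗ LinearMap.proj (⟨(0, 0), rfl⟩ : Idx 0) := by
    apply hom_ext
    intro a b hab x y
    obtain rfl : a = 0 := by omega
    obtain rfl : b = 0 := by omega
    have e3 : Htot hU πU hV 0
        (inc (show 0 + 1 + 0 = 0 + 1 by omega) (dU 0 x ⊗ₜ[k] y)) =
        inc hab ((x - πU x) ⊗ₜ[k] y) := by
      rw [Htot_apply, shL_inc_succ hU hab, shR_inc_zero, LinearMap.rTensor_tmul, h2U]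
      exact add_zero _
    have e4 : Htot hU πU hV 0
        (inc (show 0 + (0 + 1) = 0 + 1 by omega) (x ⊗ₜ[k] dV 0 y)) =
        inc hab (πU x ⊗ₜ[k] (y - πV y)) := by
      rw [Htot_apply, shL_inc_zero, shR_inc_succ (piFam πU) hV hab,
        TensorProduct.map_tmul, piFam_zero, h2V]
      exact zero_add _
    rw [LinearMap.comp_apply, TotD_inc_tmul, map_add, map_smul, e3, e4, pow_zero, one_smul,
      LinearMap.sub_apply, LinearMap.id_apply, LinearMap.comp_apply, LinearMap.comp_apply,
      LinearMap.proj_apply, inc_apply_same, TensorProduct.map_tmul, ← map_add, ← map_sub]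
    congr 1
    rw [TensorProduct.sub_tmul, TensorProduct.tmul_sub]
    abel
  exact LinearMap.congr_fun key w

end Homotopy

section Main

variable {k : Type u} [Field k]
variable {U : ℕ → Type u} [∀ a, AddCommGroup (U a)] [∀ a, Module k (U a)]
  {V : ℕ → Type u} [∀ b, AddCommGroup (V b)] [∀ b, Module k (V b)]
  (dU : ∀ a, U a →ₗ[k] U (a + 1)) (dV : ∀ b, V b →ₗ[k] V (b + 1))
  (hdU : ∀ a x, dU (a + 1) (dU a x) = 0) (hdV : ∀ b y, dV (b + 1) (dV b y) = 0)
  (hexU : ∀ a, LinearMap.ker (dU (a + 1)) = LinearMap.range (dU a))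
  (hexV : ∀ b, LinearMap.ker (dV (b + 1)) = LinearMap.range (dV b))

include hdU hdV hexU hexV in
/-- the total complex of two complexes exact in positive degrees is exact in positive degrees -/
theorem tot_exact_succ (n : ℕ) :
    LinearMap.ker (TotD dU dV (n + 1)) = LinearMap.range (TotD dU dV n) := by
  obtain ⟨hU, πU, h1U, h2U, h3U⟩ := exists_hodge dU hdU hexU
  obtain ⟨hV, πV, h1V, h2V, h3V⟩ := exists_hodge dV hdV hexV
  apply le_antisymm
  · intro w hw
    have h := homotopy_succ dU dV hU πU hV h1U h2U h3U h1V n w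
    rw [LinearMap.mem_ker.mp hw, map_zero, add_zero] at h
    exact ⟨_, h⟩
  · rintro _ ⟨w, rfl⟩
    exact LinearMap.mem_ker.mpr (TotD_TotD dU dV hdU hdV n w)

include hdU hdV hexU hexV in
/-- `H^0` of the total complex of two complexes exact in positive degrees -/
theorem tot_ker_zero :
    LinearMap.ker (TotD dU dV 0) =
      LinearMap.range ((inc (k := k) (U := U) (V := V) (show 0 + 0 = 0 from rfl)) ∘ₗ
        TensorProduct.map (LinearMap.ker (dU 0)).subtype (LinearMap.ker (dV 0)).subtype) := by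
  obtain ⟨hU, πU, h1U, h2U, h3U⟩ := exists_hodge dU hdU hexU
  obtain ⟨hV, πV, h1V, h2V, h3V⟩ := exists_hodge dV hdV hexV
  apply le_antisymm
  · intro w hw
    have h := homotopy_zero dU dV hU πU hV πV h2U h2V w
    rw [LinearMap.mem_ker.mp hw, map_zero] at h
    have hw' : w = inc (show 0 + 0 = 0 from rfl)
        (TensorProduct.map πU πV (w ⟨(0, 0), rfl⟩)) := (sub_eq_zero.mp h.symm)
    let πU' : U 0 →ₗ[k] LinearMap.ker (dU 0) := πU.codRestrict _ (fun x => h3U x)
    let πV' : V 0 →ₗ[k] LinearMap.ker (dV 0) := πV.codRestrict _ (fun y => h3V y)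
    refine ⟨TensorProduct.map πU' πV' (w ⟨(0, 0), rfl⟩), ?_⟩
    rw [LinearMap.comp_apply, ← LinearMap.comp_apply (TensorProduct.map _ _),
      ← TensorProduct.map_comp]
    exact hw'.symm
  · rintro _ ⟨t, rfl⟩
    have key : TotD dU dV 0 ∘ₗ (inc (k := k) (U := U) (V := V) (show 0 + 0 = 0 from rfl)) ∘ₗ
        TensorProduct.map (LinearMap.ker (dU 0)).subtype (LinearMap.ker (dV 0)).subtype = 0 := by
      apply TensorProduct.ext'
      intro z z'
      rw [LinearMap.comp_apply, LinearMap.comp_apply, TensorProduct.map_tmul, TotD_inc_tmul]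
      have hz : dU 0 z.1 = 0 := z.2
      have hz' : dV 0 z'.1 = 0 := z'.2
      simp only [Submodule.subtype_apply]
      rw [hz, hz', TensorProduct.zero_tmul, TensorProduct.tmul_zero, map_zero, map_zero,
        smul_zero, add_zero, LinearMap.zero_apply]
    exact LinearMap.mem_ker.mpr (LinearMap.congr_fun key t)

omit hdU hdV hexU hexV in
/-- `H^0` of the total complex of two arbitrary complexes -/
theorem tot_ker_zero' :
    LinearMap.ker (TotD dU dV 0) =
      LinearMap.range ((inc (k := k) (U := U) (V := V) (show 0 + 0 = 0 from rfl)) ∘ₗ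
        TensorProduct.map (LinearMap.ker (dU 0)).subtype (LinearMap.ker (dV 0)).subtype) := by
  choose gU hgU using fun a => exists_ginv (dU a)
  choose gV hgV using fun b => exists_ginv (dV b)
  let πU : U 0 →ₗ[k] U 0 := LinearMap.id - gU 0 ∘ₗ dU 0
  let πV : V 0 →ₗ[k] V 0 := LinearMap.id - gV 0 ∘ₗ dV 0
  have h2U : ∀ x, gU 0 (dU 0 x) = x - πU x := by
    intro x
    simp only [πU, LinearMap.sub_apply, LinearMap.id_apply, LinearMap.comp_apply]
    abel
  have h2V : ∀ y, gV 0 (dV 0 y) = y - πV y := by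
    intro y
    simp only [πV, LinearMap.sub_apply, LinearMap.id_apply, LinearMap.comp_apply]
    abel
  have h3U : ∀ x, dU 0 (πU x) = 0 := by
    intro x
    simp only [πU, LinearMap.sub_apply, LinearMap.id_apply, LinearMap.comp_apply]
    rw [map_sub, hgU, sub_self]
  have h3V : ∀ y, dV 0 (πV y) = 0 := by
    intro y
    simp only [πV, LinearMap.sub_apply, LinearMap.id_apply, LinearMap.comp_apply]
    rw [map_sub, hgV, sub_self]
  apply le_antisymm
  · intro w hw
    have h := homotopy_zero dU dV gU πU gV πV h2U h2V w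
    rw [LinearMap.mem_ker.mp hw, map_zero] at h
    have hw' : w = inc (show 0 + 0 = 0 from rfl)
        (TensorProduct.map πU πV (w ⟨(0, 0), rfl⟩)) := (sub_eq_zero.mp h.symm)
    let πU' : U 0 →ₗ[k] LinearMap.ker (dU 0) := πU.codRestrict _ (fun x => h3U x)
    let πV' : V 0 →ₗ[k] LinearMap.ker (dV 0) := πV.codRestrict _ (fun y => h3V y)
    refine ⟨TensorProduct.map πU' πV' (w ⟨(0, 0), rfl⟩), ?_⟩
    rw [LinearMap.comp_apply, ← LinearMap.comp_apply (TensorProduct.map _ _),
      ← TensorProduct.map_comp]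
    exact hw'.symm
  · rintro _ ⟨t, rfl⟩
    have key : TotD dU dV 0 ∘ₗ (inc (k := k) (U := U) (V := V) (show 0 + 0 = 0 from rfl)) ∘ₗ
        TensorProduct.map (LinearMap.ker (dU 0)).subtype (LinearMap.ker (dV 0)).subtype = 0 := by
      apply TensorProduct.ext'
      intro z z'
      rw [LinearMap.comp_apply, LinearMap.comp_apply, TensorProduct.map_tmul, TotD_inc_tmul]
      have hz : dU 0 z.1 = 0 := z.2
      have hz' : dV 0 z'.1 = 0 := z'.2
      simp only [Submodule.subtype_apply]
      rw [hz, hz', TensorProduct.zero_tmul, TensorProduct.tmul_zero, map_zero, map_zero,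
        smul_zero, add_zero, LinearMap.zero_apply]
    exact LinearMap.mem_ker.mpr (LinearMap.congr_fun key t)

end Main

end Groth.Agent.H81.Kun
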