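import Mathlib

set_option autoImplicit false

/-!
# The reindexing behind the Künneth formula for the torsion subcomplex
-/

namespace Groth.Agent.H81.Kun

open Finset

theorem arith_kunneth (u v ub vb : ℕ → ℕ) (A B : ℕ)
    (hub0 : ub 0 = A) (hub : ∀ i, ub (i + 1) = u (i + 2))
    (hvb0 : vb 0 = B) (hvb : ∀ j, vb (j + 1) = v (j + 2))
    (hu0 : u 0 = 0) (hu1 : u 1 = 0) (hv0 : v 0 = 0) (hv1 : v 1 = 0) (n : ℕ) :
    ∑ p ∈ antidiagonal (n + 1), ub p.1 * vb p.2 =
      A * v (n + 2) + u (n + 2) * B + ∑ i ∈ range (n + 2 + 2), u i * v (n + 2 + 1 - i) := by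
  have hR : ∑ i ∈ range (n + 2 + 2), u i * v (n + 2 + 1 - i) =
      ∑ p ∈ antidiagonal n, u (p.1 + 2) * v (p.2 + 1) := by
    rw [← Nat.sum_antidiagonal_eq_sum_range_succ (fun i j => u i * v j) (n + 2 + 1),
      Nat.sum_antidiagonal_succ, Nat.sum_antidiagonal_succ, Nat.sum_antidiagonal_succ']
    simp only [hu0, hu1, hv0, zero_mul, mul_zero, zero_add]
  rw [hR, Nat.sum_antidiagonal_succ]
  simp only [hub0, hub, hvb]
  cases n with
  | zero =>
    simp [hvb0, hv1]
  | succ m =>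
    rw [Nat.sum_antidiagonal_succ', Nat.sum_antidiagonal_succ' (n := m)]
    simp only [hvb0, hvb, hv1, mul_zero, zero_add]
    ring

end Groth.Agent.H81.Kun
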