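import Mathlib
import Groth.Agent.H81.Kun.Conn
import Groth.Agent.H81.Kun.TotExact

set_option autoImplicit false
set_option linter.unusedSectionVars false
universe u

/-!
# The two instances of the connecting isomorphism used in the Künneth formula
-/

namespace Groth.Agent.H81.Kun

open scoped TensorProduct

section OneVar

variable {k : Type u} [Field k]
variable {U : ℕ → Type u} [∀ a, AddCommGroup (U a)] [∀ a, Module k (U a)]
  (dU : ∀ a, U a →ₗ[k] U (a + 1))
  (U' : ∀ a, Submodule k (U a)) (hU' : ∀ a x, x ∈ U' a → dU a x ∈ U' (a + 1))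

/-- the quotient complex -/
abbrev Ub (U' : ∀ a, Submodule k (U a)) (a : ℕ) : Type u := U a ⧸ U' a

/-- the differential of the quotient complex -/
def dUb (a : ℕ) : Ub U' a →ₗ[k] Ub U' (a + 1) :=
  (U' a).mapQ (U' (a + 1)) (dU a) (fun x hx => hU' a x hx)

theorem dUb_mk (a : ℕ) (x : U a) :
    dUb dU U' hU' a ((U' a).mkQ x) = (U' (a + 1)).mkQ (dU a x) := rfl

theorem kerSub_mkQ : kerSub (fun a => (U' a).mkQ) = U' :=
  funext fun a => Submodule.ker_mkQ _

variable (hdU : ∀ a x, dU (a + 1) (dU a x) = 0)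
  (hexU : ∀ a, LinearMap.ker (dU (a + 1)) = LinearMap.range (dU a))

include hdU hexU in
theorem finrank_Hs_Ub_succ (n : ℕ) :
    Module.finrank k (Hs (dUb dU U' hU') (topSub (Ub U')) (n + 1)) =
      Module.finrank k (Hs dU U' (n + 2)) := by
  have h := finrank_conn dU (dUb dU U' hU') (fun a => (U' a).mkQ) hdU (fun _ _ => rfl)
    (fun a => Submodule.mkQ_surjective _) n (hexU n) (hexU (n + 1))
  rw [kerSub_mkQ] at h
  exact h

include hdU in
theorem finrank_Hs_Ub_zero (hU0 : ∀ x ∈ U' 0, dU 0 x = 0 → x = 0)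
    (hU1 : ∀ x ∈ U' 1, dU 1 x = 0 → ∃ y ∈ U' 0, dU 0 y = x) :
    Module.finrank k (Hs (dUb dU U' hU') (topSub (Ub U')) 0) =
      Module.finrank k (LinearMap.ker (dU 0)) := by
  refine finrank_conn_zero dU (dUb dU U' hU') (fun a => (U' a).mkQ) hdU (fun _ _ => rfl)
    (fun a => Submodule.mkQ_surjective _) ?_ ?_
  · rw [kerSub_mkQ]
    exact hU0
  · rw [kerSub_mkQ]
    exact hU1

include hdU in
theorem Qker0_mkQ_bijective (hU0 : ∀ x ∈ U' 0, dU 0 x = 0 → x = 0)
    (hU1 : ∀ x ∈ U' 1, dU 1 x = 0 → ∃ y ∈ U' 0, dU 0 y = x) :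
    Function.Bijective (Qker0 dU (dUb dU U' hU') (fun a => (U' a).mkQ) (fun _ _ => rfl)) := by
  refine Qker0_bijective dU (dUb dU U' hU') (fun a => (U' a).mkQ) hdU (fun _ _ => rfl)
    (fun a => Submodule.mkQ_surjective _) ?_ ?_
  · rw [kerSub_mkQ]
    exact hU0
  · rw [kerSub_mkQ]
    exact hU1

end OneVar

section TwoVar

variable {k : Type u} [Field k]
variable {U : ℕ → Type u} [∀ a, AddCommGroup (U a)] [∀ a, Module k (U a)]
  {V : ℕ → Type u} [∀ b, AddCommGroup (V b)] [∀ b, Module k (V b)]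
  (dU : ∀ a, U a →ₗ[k] U (a + 1)) (dV : ∀ b, V b →ₗ[k] V (b + 1))
  (U' : ∀ a, Submodule k (U a)) (hU' : ∀ a x, x ∈ U' a → dU a x ∈ U' (a + 1))
  (V' : ∀ b, Submodule k (V b)) (hV' : ∀ b y, y ∈ V' b → dV b y ∈ V' (b + 1))

/-- the quotient map of total complexes -/
noncomputable abbrev QT (n : ℕ) : TotX k U V n →ₗ[k] TotX k (Ub U') (Ub V') n :=
  TotMap (fun a => (U' a).mkQ) (fun b => (V' b).mkQ) n

/-- the differential of the quotient total complex -/
noncomputable abbrev DTb (n : ℕ) :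
    TotX k (Ub U') (Ub V') n →ₗ[k] TotX k (Ub U') (Ub V') (n + 1) :=
  TotD (dUb dU U' hU') (dUb dV V' hV') n

theorem QT_surjective (n : ℕ) : Function.Surjective (QT U' V' n) := by
  intro y
  have h : ∀ p : Idx n, ∃ t : U p.1.1 ⊗[k] V p.1.2,
      TensorProduct.map (U' p.1.1).mkQ (V' p.1.2).mkQ t = y p := fun p =>
    TensorProduct.map_surjective (Submodule.mkQ_surjective _) (Submodule.mkQ_surjective _) (y p)
  choose w hw using h
  exact ⟨w, funext fun p => hw p⟩

theorem QT_chain (n : ℕ) (w : TotX k U V n) :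
    QT U' V' (n + 1) (TotD dU dV n w) = DTb dU dV U' hU' V' hV' n (QT U' V' n w) :=
  TotMap_TotD dU dV _ _ (dUb dU U' hU') (dUb dV V' hV') (fun _ _ => rfl) (fun _ _ => rfl) n w

variable (hdU : ∀ a x, dU (a + 1) (dU a x) = 0) (hdV : ∀ b y, dV (b + 1) (dV b y) = 0)
  (hexU : ∀ a, LinearMap.ker (dU (a + 1)) = LinearMap.range (dU a))
  (hexV : ∀ b, LinearMap.ker (dV (b + 1)) = LinearMap.range (dV b))

include hdU hdV hexU hexV in
theorem finrank_Hs_GG_succ (n : ℕ) :
    Module.finrank k (Hs (DTb dU dV U' hU' V' hV') (topSub (TotX k (Ub U') (Ub V'))) (n + 1)) =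
      Module.finrank k (Hs (TotD dU dV) (fun n => LinearMap.ker (QT U' V' n)) (n + 2)) :=
  finrank_conn (TotD dU dV) (DTb dU dV U' hU' V' hV') (QT U' V') (TotD_TotD dU dV hdU hdV)
    (QT_chain dU dV U' hU' V' hV') (QT_surjective U' V') n
    (tot_exact_succ dU dV hdU hdV hexU hexV n) (tot_exact_succ dU dV hdU hdV hexU hexV (n + 1))

include hdU hdV hexU hexV in
theorem Qker0_QT_bijective (hU0 : ∀ x ∈ U' 0, dU 0 x = 0 → x = 0)
    (hU1 : ∀ x ∈ U' 1, dU 1 x = 0 → ∃ y ∈ U' 0, dU 0 y = x)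
    (hV0 : ∀ y ∈ V' 0, dV 0 y = 0 → y = 0)
    (hV1 : ∀ y ∈ V' 1, dV 1 y = 0 → ∃ z ∈ V' 0, dV 0 z = y) :
    Function.Bijective (Qker0 (TotD dU dV) (DTb dU dV U' hU' V' hV') (QT U' V')
      (QT_chain dU dV U' hU' V' hV')) := by
  have hqA := Qker0_mkQ_bijective dU U' hU' hdU hU0 hU1
  have hqB := Qker0_mkQ_bijective dV V' hV' hdV hV0 hV1
  set qA := Qker0 dU (dUb dU U' hU') (fun a => (U' a).mkQ) (fun _ _ => rfl) with hqAdef
  set qB := Qker0 dV (dUb dV V' hV') (fun b => (V' b).mkQ) (fun _ _ => rfl) with hqBdef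
  have key : ∀ t : LinearMap.ker (dU 0) ⊗[k] LinearMap.ker (dV 0),
      QT U' V' 0 (inc (show 0 + 0 = 0 from rfl)
        (TensorProduct.map (LinearMap.ker (dU 0)).subtype (LinearMap.ker (dV 0)).subtype t)) =
      inc (show 0 + 0 = 0 from rfl)
        (TensorProduct.map (LinearMap.ker (dUb dU U' hU' 0)).subtype
          (LinearMap.ker (dUb dV V' hV' 0)).subtype (TensorProduct.map qA qB t)) := by
    intro t
    rw [TotMap_inc]
    congr 1
    have e : TensorProduct.map (U' 0).mkQ (V' 0).mkQ ∘ₗ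
        TensorProduct.map (LinearMap.ker (dU 0)).subtype (LinearMap.ker (dV 0)).subtype =
        TensorProduct.map (LinearMap.ker (dUb dU U' hU' 0)).subtype
          (LinearMap.ker (dUb dV V' hV' 0)).subtype ∘ₗ TensorProduct.map qA qB := by
      rw [← TensorProduct.map_comp, ← TensorProduct.map_comp]
      rfl
    exact LinearMap.congr_fun e t
  have hinjS : Function.Injective (TensorProduct.map (LinearMap.ker (dUb dU U' hU' 0)).subtype
      (LinearMap.ker (dUb dV V' hV' 0)).subtype) :=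
    TensorProduct.map_injective_of_flat_flat _ _ (Submodule.injective_subtype _)
      (Submodule.injective_subtype _)
  have hinjq : Function.Injective (TensorProduct.map qA qB) :=
    TensorProduct.map_injective_of_flat_flat _ _ hqA.1 hqB.1
  have hsurjq : Function.Surjective (TensorProduct.map qA qB) :=
    TensorProduct.map_surjective hqA.2 hqB.2
  constructor
  · rw [injective_iff_map_eq_zero]
    intro w hw
    have hw' : QT U' V' 0 w.1 = 0 := congrArg Subtype.val hw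
    have hmem : w.1 ∈ LinearMap.range ((inc (k := k) (U := U) (V := V)
        (show 0 + 0 = 0 from rfl)) ∘ₗ TensorProduct.map (LinearMap.ker (dU 0)).subtype
          (LinearMap.ker (dV 0)).subtype) := by
      rw [← tot_ker_zero dU dV hdU hdV hexU hexV]
      exact w.2
    obtain ⟨t, ht⟩ := hmem
    rw [LinearMap.comp_apply] at ht
    rw [← ht, key] at hw'
    have h1 := congrFun hw' (⟨(0, 0), rfl⟩ : Idx 0)
    rw [inc_apply_same] at h1
    have h2 : TensorProduct.map qA qB t = 0 := hinjS (h1.trans (map_zero _).symm)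
    have h3 : t = 0 := hinjq (h2.trans (map_zero _).symm)
    apply Subtype.ext
    rw [← ht, h3, map_zero, map_zero]
    rfl
  · rintro ⟨y, hy⟩
    have hmem : y ∈ LinearMap.range ((inc (k := k) (U := Ub U') (V := Ub V')
        (show 0 + 0 = 0 from rfl)) ∘ₗ TensorProduct.map (LinearMap.ker (dUb dU U' hU' 0)).subtype
          (LinearMap.ker (dUb dV V' hV' 0)).subtype) := by
      rw [← tot_ker_zero' (dUb dU U' hU') (dUb dV V' hV')]
      exact hy
    obtain ⟨s, hs⟩ := hmem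
    rw [LinearMap.comp_apply] at hs
    obtain ⟨t, rfl⟩ := hsurjq s
    have hw : inc (k := k) (U := U) (V := V) (show 0 + 0 = 0 from rfl)
        (TensorProduct.map (LinearMap.ker (dU 0)).subtype (LinearMap.ker (dV 0)).subtype t) ∈
        LinearMap.ker (TotD dU dV 0) := by
      rw [tot_ker_zero dU dV hdU hdV hexU hexV]
      exact ⟨t, rfl⟩
    refine ⟨⟨_, hw⟩, Subtype.ext ?_⟩
    exact (key t).trans hs

include hU' hV' hdU hdV hexU hexV in
theorem GG_vanish (hU0 : ∀ x ∈ U' 0, dU 0 x = 0 → x = 0)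
    (hU1 : ∀ x ∈ U' 1, dU 1 x = 0 → ∃ y ∈ U' 0, dU 0 y = x)
    (hV0 : ∀ y ∈ V' 0, dV 0 y = 0 → y = 0)
    (hV1 : ∀ y ∈ V' 1, dV 1 y = 0 → ∃ z ∈ V' 0, dV 0 z = y) :
    (∀ x ∈ LinearMap.ker (QT U' V' 0), TotD dU dV 0 x = 0 → x = 0) ∧
      (∀ x ∈ LinearMap.ker (QT U' V' 1), TotD dU dV 1 x = 0 →
        ∃ y ∈ LinearMap.ker (QT U' V' 0), TotD dU dV 0 y = x) :=
  vanish_of_Qker0_bijective (TotD dU dV) (DTb dU dV U' hU' V' hV') (QT U' V')
    (TotD_TotD dU dV hdU hdV) (QT_chain dU dV U' hU' V' hV')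
    (Qker0_QT_bijective dU dV U' hU' V' hV' hdU hdV hexU hexV hU0 hU1 hV0 hV1)
    (tot_exact_succ dU dV hdU hdV hexU hexV 0)

end TwoVar

end Groth.Agent.H81.Kun
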