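import Mathlib
import Groth.Agent.H81.Kun.Conn
import Groth.Agent.H81.Kun.Hodge

set_option autoImplicit false
set_option linter.unusedSectionVars false
universe u

/-!
# Hodge data on a complex of vector spaces: a homotopy from the identity to a projection onto
a space of harmonic representatives
-/

namespace Groth.Agent.H81.Kun

/-- Hodge data on a complex: a homotopy `h` and a projection `π` with `dh + hd = 1 - π`,
`dπ = πd = 0` -/
structure HodgeData {k : Type u} [CommRing k] {X : ℕ → Type u} [∀ n, AddCommGroup (X n)]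
    [∀ n, Module k (X n)] (D : ∀ n, X n →ₗ[k] X (n + 1)) where
  h : ∀ n, X (n + 1) →ₗ[k] X n
  π : ∀ n, X n →ₗ[k] X n
  hom_succ : ∀ n x, D n (h n x) + h (n + 1) (D (n + 1) x) = x - π (n + 1) x
  hom_zero : ∀ x, h 0 (D 0 x) = x - π 0 x
  D_π : ∀ n x, D n (π n x) = 0
  π_D : ∀ n x, π (n + 1) (D n x) = 0
  π_π : ∀ n x, π n (π n x) = π n x

section Exists

variable {k : Type u} [Field k] {X : ℕ → Type u} [∀ n, AddCommGroup (X n)]
  [∀ n, Module k (X n)] (D : ∀ n, X n →ₗ[k] X (n + 1)) (hD : ∀ n x, D (n + 1) (D n x) = 0)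

/-- the projections onto the coboundaries attached to generalized inverses -/
def eFam (g : ∀ n, X (n + 1) →ₗ[k] X n) : ∀ n, X n →ₗ[k] X n
  | 0 => 0
  | n + 1 => D n ∘ₗ g n

include hD in
theorem D_eFam (g : ∀ n, X (n + 1) →ₗ[k] X n) (n : ℕ) (x : X n) : D n (eFam D g n x) = 0 := by
  cases n with
  | zero => exact map_zero _
  | succ n => exact hD n _

theorem eFam_eFam (g : ∀ n, X (n + 1) →ₗ[k] X n) (hg : ∀ n x, D n (g n (D n x)) = D n x)
    (n : ℕ) (x : X n) : eFam D g n (eFam D g n x) = eFam D g n x := by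
  cases n with
  | zero => rfl
  | succ n => exact hg n _

include hD in
/-- every complex of vector spaces has Hodge data -/
theorem nonempty_hodgeData : Nonempty (HodgeData D) := by
  choose g hg using fun n => exists_ginv (D n)
  let e := eFam D g
  have he_succ : ∀ n x, e (n + 1) x = D n (g n x) := fun n x => rfl
  have hDe : ∀ n x, D n (e n x) = 0 := D_eFam D hD g
  have hee : ∀ n x, e n (e n x) = e n x := eFam_eFam D g hg
  let gt : ∀ n, X (n + 1) →ₗ[k] X n := fun n => (LinearMap.id - e n) ∘ₗ g n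
  have hgt : ∀ n x, gt n x = g n x - e n (g n x) := fun n x => rfl
  have hDgt : ∀ n x, D n (gt n x) = e (n + 1) x := by
    intro n x
    rw [hgt, map_sub, hDe, sub_zero, he_succ]
  have hegt : ∀ n x, e n (gt n x) = 0 := by
    intro n x
    rw [hgt, map_sub, hee, sub_self]
  have heD : ∀ n x, e (n + 1) (D n x) = D n x := fun n x => hg n x
  let c : ∀ n, X n →ₗ[k] X n := fun n => gt n ∘ₗ D n
  have hc : ∀ n x, c n x = gt n (D n x) := fun n x => rfl
  have hec : ∀ n x, e n (c n x) = 0 := fun n x => hegt n _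
  have hce : ∀ n x, c n (e n x) = 0 := by
    intro n x
    rw [hc, hDe, map_zero]
  have hcc : ∀ n x, c n (c n x) = c n x := by
    intro n x
    rw [hc, hc, hDgt, heD]
  have hDc : ∀ n x, D n (c n x) = D n x := by
    intro n x
    rw [hc, hDgt, heD]
  have hcD : ∀ n x, c (n + 1) (D n x) = 0 := by
    intro n x
    rw [hc, hD, map_zero]
  refine ⟨{ h := fun n => gt n ∘ₗ e (n + 1)
            π := fun n => LinearMap.id - e n - c n
            hom_succ := ?_, hom_zero := ?_, D_π := ?_, π_D := ?_, π_π := ?_ }⟩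
  · intro n x
    simp only [LinearMap.comp_apply, LinearMap.sub_apply, LinearMap.id_apply]
    rw [hDgt, hee, heD, ← hc]
    abel
  · intro x
    simp only [LinearMap.comp_apply, LinearMap.sub_apply, LinearMap.id_apply]
    rw [heD, ← hc]
    have : e 0 x = 0 := rfl
    rw [this]
    abel
  · intro n x
    simp only [LinearMap.sub_apply, LinearMap.id_apply]
    rw [map_sub, map_sub, hDe, hDc]
    abel
  · intro n x
    simp only [LinearMap.sub_apply, LinearMap.id_apply]
    rw [heD, hcD]
    abel
  · intro n x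
    simp only [LinearMap.sub_apply, LinearMap.id_apply, map_sub]
    rw [hee, hec, hce, hcc]
    abel

end Exists

namespace HodgeData

variable {k : Type u} [Field k] {X : ℕ → Type u} [∀ n, AddCommGroup (X n)]
  [∀ n, Module k (X n)] {D : ∀ n, X n →ₗ[k] X (n + 1)} (A : HodgeData D)

/-- harmonic elements are cocycles -/
theorem range_le_cocyc (n : ℕ) : LinearMap.range (A.π n) ≤ cocyc D (topSub X) n := by
  rintro _ ⟨x, rfl⟩
  exact ⟨Submodule.mem_top, A.D_π n x⟩

/-- the class of a harmonic element -/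
noncomputable def toHs (n : ℕ) : LinearMap.range (A.π n) →ₗ[k] Hs D (topSub X) n :=
  ((cobdy D (topSub X) n).comap (cocyc D (topSub X) n).subtype).mkQ ∘ₗ
    Submodule.inclusion (A.range_le_cocyc n)

theorem toHs_injective (n : ℕ) : Function.Injective (A.toHs n) := by
  rw [injective_iff_map_eq_zero]
  rintro ⟨v, hv⟩ h0
  change Submodule.Quotient.mk _ = 0 at h0
  rw [Submodule.Quotient.mk_eq_zero] at h0
  have h1 : v ∈ cobdy D (topSub X) n := h0
  apply Subtype.ext
  change v = 0
  obtain ⟨w, rfl⟩ := hv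
  cases n with
  | zero => exact h1
  | succ n =>
    obtain ⟨u, -, hu⟩ := h1
    rw [← A.π_π, ← hu, A.π_D]

theorem toHs_surjective (n : ℕ) : Function.Surjective (A.toHs n) := by
  intro y
  obtain ⟨⟨z, hz⟩, rfl⟩ := Submodule.Quotient.mk_surjective _ y
  refine ⟨⟨A.π n z, LinearMap.mem_range_self _ z⟩, ?_⟩
  change Submodule.Quotient.mk _ = Submodule.Quotient.mk _
  rw [Submodule.Quotient.eq]
  change A.π n z - z ∈ cobdy D (topSub X) n
  have hDz : D n z = 0 := hz.2
  cases n with
  | zero =>
    have := A.hom_zero z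
    rw [hDz, map_zero] at this
    change A.π 0 z - z = 0
    rw [sub_eq_zero]
    exact (sub_eq_zero.mp this.symm).symm
  | succ n =>
    have := A.hom_succ n z
    rw [hDz, map_zero, add_zero] at this
    refine ⟨-(A.h n z), Submodule.mem_top, ?_⟩
    rw [map_neg, this]
    abel

/-- cohomology is the space of harmonic elements -/
noncomputable def equivHs (n : ℕ) : LinearMap.range (A.π n) ≃ₗ[k] Hs D (topSub X) n :=
  LinearEquiv.ofBijective (A.toHs n) ⟨A.toHs_injective n, A.toHs_surjective n⟩

theorem finrank_Hs (n : ℕ) :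
    Module.finrank k (Hs D (topSub X) n) = Module.finrank k (LinearMap.range (A.π n)) :=
  (A.equivHs n).finrank_eq.symm

end HodgeData

end Groth.Agent.H81.Kun
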