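import Mathlib
import Groth.Agent.H81.Kun.HodgeData
import Groth.Agent.H81.Kun.TotExact
import Groth.Agent.H81.Kun.Pi

set_option autoImplicit false
set_option linter.unusedSectionVars false
universe u

/-!
# Hodge data on the total complex of two complexes with Hodge data
-/

namespace Groth.Agent.H81.Kun

open scoped TensorProduct

section ShiftS

variable {k : Type u} [CommRing k]
variable {U : ℕ → Type u} [∀ a, AddCommGroup (U a)] [∀ a, Module k (U a)]
  {V : ℕ → Type u} [∀ b, AddCommGroup (V b)] [∀ b, Module k (V b)]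

/-- the signed shift `(-1)^a π ⊗ hV` -/
noncomputable def shRs (πs : ∀ a, U a →ₗ[k] U a) (hV : ∀ b, V (b + 1) →ₗ[k] V b) (n : ℕ) :
    TotX k U V (n + 1) →ₗ[k] TotX k U V n :=
  LinearMap.pi fun p : Idx n => ((-1 : k) ^ p.1.1) •
    (TensorProduct.map (πs p.1.1) (hV p.1.2) ∘ₗ
      LinearMap.proj (⟨(p.1.1, p.1.2 + 1), by have := p.2; omega⟩ : Idx (n + 1)))

theorem shRs_apply (πs : ∀ a, U a →ₗ[k] U a) (hV : ∀ b, V (b + 1) →ₗ[k] V b) (n : ℕ)
    (w : TotX k U V (n + 1)) (p : Idx n) :
    shRs πs hV n w p = ((-1 : k) ^ p.1.1) • TensorProduct.map (πs p.1.1) (hV p.1.2)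
      (w (⟨(p.1.1, p.1.2 + 1), by have := p.2; omega⟩ : Idx (n + 1))) := rfl

theorem shRs_inc_succ (πs : ∀ a, U a →ₗ[k] U a) (hV : ∀ b, V (b + 1) →ₗ[k] V b) {a b n : ℕ}
    (h : a + b = n) (h' : a + (b + 1) = n + 1) (t : U a ⊗[k] V (b + 1)) :
    shRs πs hV n (inc h' t) = ((-1 : k) ^ a) • inc h (TensorProduct.map (πs a) (hV b) t) := by
  funext p
  rw [shRs_apply, Pi.smul_apply]
  by_cases hp : p = ⟨(a, b), h⟩
  · subst hp
    rw [inc_apply_same, inc_apply_same]
  · rw [inc_apply_ne h _ p hp, inc_apply_ne h' t, map_zero, smul_zero, smul_zero]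
    intro hq
    apply hp
    have h1 := congrArg (fun q : Idx (n + 1) => q.1.1) hq
    have h2 := congrArg (fun q : Idx (n + 1) => q.1.2) hq
    simp only at h1 h2
    apply Subtype.ext
    apply Prod.ext
    · exact h1
    · exact Nat.succ_injective h2

theorem shRs_inc_zero (πs : ∀ a, U a →ₗ[k] U a) (hV : ∀ b, V (b + 1) →ₗ[k] V b) {a n : ℕ}
    (h' : a + 0 = n + 1) (t : U a ⊗[k] V 0) :
    shRs πs hV n (inc h' t) = 0 := by
  funext p
  rw [shRs_apply, inc_apply_ne h' t, map_zero, smul_zero]
  · rfl
  · intro hq
    have h2 := congrArg (fun q : Idx (n + 1) => q.1.2) hq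
    simp only at h2
    omega

end ShiftS

section Tot

variable {k : Type u} [Field k]
variable {U : ℕ → Type u} [∀ a, AddCommGroup (U a)] [∀ a, Module k (U a)]
  {V : ℕ → Type u} [∀ b, AddCommGroup (V b)] [∀ b, Module k (V b)]
  {dU : ∀ a, U a →ₗ[k] U (a + 1)} {dV : ∀ b, V b →ₗ[k] V (b + 1)}
  (A : HodgeData dU) (B : HodgeData dV)

theorem neg_one_pow_mul_self (a : ℕ) : ((-1 : k) ^ a) * ((-1 : k) ^ a) = 1 := by
  rw [← mul_pow]
  simp

/-- the left partial homotopy identity, positive degrees -/
theorem left_succ (n : ℕ) (w : TotX k U V (n + 1)) :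
    TotD dU dV n (shL A.h n w) + shL A.h (n + 1) (TotD dU dV (n + 1) w) =
      PiMap (fun a b => TensorProduct.map (LinearMap.id - A.π a) (LinearMap.id : V b →ₗ[k] V b))
        (n + 1) w := by
  have key : TotD dU dV n ∘ₗ shL A.h n + shL A.h (n + 1) ∘ₗ TotD dU dV (n + 1) =
      PiMap (fun a b => TensorProduct.map (LinearMap.id - A.π a) (LinearMap.id : V b →ₗ[k] V b))
        (n + 1) := by
    apply hom_ext
    intro a b hab x y
    rw [LinearMap.add_apply, LinearMap.comp_apply, LinearMap.comp_apply, PiMap_inc,
      TensorProduct.map_tmul, LinearMap.sub_apply, LinearMap.id_apply, LinearMap.id_apply,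
      TotD_inc_tmul, map_add, map_smul, shL_inc_succ A.h hab, LinearMap.rTensor_tmul]
    cases a with
    | zero =>
      rw [shL_inc_zero, shL_inc_zero, map_zero, smul_zero, add_zero, zero_add, A.hom_zero]
    | succ a =>
      have hab' : a + b = n := by omega
      rw [shL_inc_succ A.h hab', LinearMap.rTensor_tmul, TotD_inc_tmul,
        shL_inc_succ A.h (show a + (b + 1) = n + 1 by omega), LinearMap.rTensor_tmul,
        ← A.hom_succ a x, TensorProduct.add_tmul, map_add, pow_succ, mul_neg_one, neg_smul]
      abel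
  exact LinearMap.congr_fun key w

/-- the left partial homotopy identity, degree zero -/
theorem left_zero (w : TotX k U V 0) :
    shL A.h 0 (TotD dU dV 0 w) =
      PiMap (fun a b => TensorProduct.map (LinearMap.id - A.π a) (LinearMap.id : V b →ₗ[k] V b))
        0 w := by
  have key : shL A.h 0 ∘ₗ TotD dU dV 0 =
      PiMap (fun a b => TensorProduct.map (LinearMap.id - A.π a) (LinearMap.id : V b →ₗ[k] V b))
        0 := by
    apply hom_ext
    intro a b hab x y
    obtain rfl : a = 0 := by omega
    obtain rfl : b = 0 := by omega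
    rw [LinearMap.comp_apply, PiMap_inc,
      TensorProduct.map_tmul, LinearMap.sub_apply, LinearMap.id_apply, LinearMap.id_apply,
      TotD_inc_tmul, map_add, map_smul, shL_inc_succ A.h hab, LinearMap.rTensor_tmul,
      shL_inc_zero, smul_zero, add_zero, A.hom_zero]
  exact LinearMap.congr_fun key w

/-- the right partial homotopy identity, positive degrees -/
theorem right_succ (n : ℕ) (w : TotX k U V (n + 1)) :
    TotD dU dV n (shRs A.π B.h n w) + shRs A.π B.h (n + 1) (TotD dU dV (n + 1) w) =
      PiMap (fun a b => TensorProduct.map (A.π a) (LinearMap.id - B.π b)) (n + 1) w := by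
  have key : TotD dU dV n ∘ₗ shRs A.π B.h n + shRs A.π B.h (n + 1) ∘ₗ TotD dU dV (n + 1) =
      PiMap (fun a b => TensorProduct.map (A.π a) (LinearMap.id - B.π b)) (n + 1) := by
    apply hom_ext
    intro a b hab x y
    rw [LinearMap.add_apply, LinearMap.comp_apply, LinearMap.comp_apply, PiMap_inc,
      TensorProduct.map_tmul, LinearMap.sub_apply, LinearMap.id_apply,
      TotD_inc_tmul, map_add, map_smul,
      shRs_inc_succ A.π B.h hab (show a + (b + 1) = n + 1 + 1 by omega),
      TensorProduct.map_tmul, smul_smul, neg_one_pow_mul_self, one_smul]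
    cases b with
    | zero =>
      rw [shRs_inc_zero, shRs_inc_zero, map_zero, zero_add, zero_add, B.hom_zero]
    | succ b =>
      have hab' : a + b = n := by omega
      rw [shRs_inc_succ A.π B.h hab' hab, TensorProduct.map_tmul, map_smul, TotD_inc_tmul,
        A.D_π, TensorProduct.zero_tmul, map_zero, zero_add, smul_smul, neg_one_pow_mul_self,
        one_smul,
        shRs_inc_succ A.π B.h (show a + 1 + b = n + 1 by omega)
          (show a + 1 + (b + 1) = n + 1 + 1 by omega),
        TensorProduct.map_tmul, A.π_D, TensorProduct.zero_tmul, map_zero, smul_zero, zero_add,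
        ← map_add, ← TensorProduct.tmul_add, B.hom_succ]
  exact LinearMap.congr_fun key w

/-- the right partial homotopy identity, degree zero -/
theorem right_zero (w : TotX k U V 0) :
    shRs A.π B.h 0 (TotD dU dV 0 w) =
      PiMap (fun a b => TensorProduct.map (A.π a) (LinearMap.id - B.π b)) 0 w := by
  have key : shRs A.π B.h 0 ∘ₗ TotD dU dV 0 =
      PiMap (fun a b => TensorProduct.map (A.π a) (LinearMap.id - B.π b)) 0 := by
    apply hom_ext
    intro a b hab x y
    obtain rfl : a = 0 := by omega
    obtain rfl : b = 0 := by omega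
    rw [LinearMap.comp_apply, PiMap_inc,
      TensorProduct.map_tmul, LinearMap.sub_apply, LinearMap.id_apply,
      TotD_inc_tmul, map_add, map_smul,
      shRs_inc_succ A.π B.h hab (show 0 + (0 + 1) = 0 + 1 by omega),
      TensorProduct.map_tmul, smul_smul, neg_one_pow_mul_self, one_smul, shRs_inc_zero, zero_add,
      B.hom_zero]
  exact LinearMap.congr_fun key w

theorem tensor_id_sub {A' B' : Type u} [AddCommGroup A'] [Module k A'] [AddCommGroup B']
    [Module k B'] (π : A' →ₗ[k] A') (π' : B' →ₗ[k] B') (t : A' ⊗[k] B') :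
    TensorProduct.map (LinearMap.id - π) (LinearMap.id : B' →ₗ[k] B') t +
      TensorProduct.map π (LinearMap.id - π') t = t - TensorProduct.map π π' t := by
  induction t using TensorProduct.induction_on with
  | zero => simp
  | tmul x y =>
    simp only [TensorProduct.map_tmul, LinearMap.sub_apply, LinearMap.id_apply,
      TensorProduct.sub_tmul, TensorProduct.tmul_sub]
    abel
  | add s t hs ht =>
    rw [map_add, map_add, map_add, add_add_add_comm, hs, ht]
    abel

/-- the harmonic projection of the total complex -/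
noncomputable abbrev PiTot (n : ℕ) : TotX k U V n →ₗ[k] TotX k U V n :=
  PiMap (fun a b => TensorProduct.map (A.π a) (B.π b)) n

theorem PiMap_sum_eq (n : ℕ) (w : TotX k U V n) :
    PiMap (fun a b => TensorProduct.map (LinearMap.id - A.π a) (LinearMap.id : V b →ₗ[k] V b))
        n w + PiMap (fun a b => TensorProduct.map (A.π a) (LinearMap.id - B.π b)) n w =
      w - PiTot A B n w := by
  funext p
  rw [Pi.add_apply, Pi.sub_apply, PiMap_apply, PiMap_apply, PiMap_apply]
  exact tensor_id_sub _ _ _

/-- Hodge data on the total complex -/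
noncomputable def HodgeData.tot : HodgeData (TotD dU dV) where
  h := fun n => shL A.h n + shRs A.π B.h n
  π := fun n => PiTot A B n
  hom_succ := by
    intro n w
    rw [LinearMap.add_apply, LinearMap.add_apply, map_add, ← PiMap_sum_eq A B (n + 1) w,
      ← left_succ A n w, ← right_succ A B n w]
    abel
  hom_zero := by
    intro w
    rw [LinearMap.add_apply, ← PiMap_sum_eq A B 0 w, ← left_zero A w, ← right_zero A B w]
  D_π := by
    intro n w
    have key : TotD dU dV n ∘ₗ PiTot A B n = 0 := by
      apply hom_ext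
      intro a b hab x y
      rw [LinearMap.comp_apply, PiMap_inc, TensorProduct.map_tmul, TotD_inc_tmul, A.D_π, B.D_π,
        TensorProduct.zero_tmul, TensorProduct.tmul_zero, map_zero, map_zero, smul_zero,
        add_zero, LinearMap.zero_apply]
    exact LinearMap.congr_fun key w
  π_D := by
    intro n w
    have key : PiTot A B (n + 1) ∘ₗ TotD dU dV n = 0 := by
      apply hom_ext
      intro a b hab x y
      rw [LinearMap.comp_apply, TotD_inc_tmul, map_add, map_smul, PiMap_inc, PiMap_inc,
        TensorProduct.map_tmul, TensorProduct.map_tmul, A.π_D, B.π_D,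
        TensorProduct.zero_tmul, TensorProduct.tmul_zero, map_zero, map_zero, smul_zero,
        add_zero, LinearMap.zero_apply]
    exact LinearMap.congr_fun key w
  π_π := by
    intro n w
    funext p
    rw [PiMap_apply, PiMap_apply, ← LinearMap.comp_apply, ← TensorProduct.map_comp]
    congr 2
    · exact LinearMap.ext fun x => A.π_π _ x
    · exact LinearMap.ext fun y => B.π_π _ y

end Tot

end Groth.Agent.H81.Kun
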