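import Mathlib
import Groth.Agent.H81.Kun.HodgeTot

set_option autoImplicit false
set_option linter.unusedSectionVars false
universe u

/-!
# The Künneth dimension formula for the total complex of two complexes of vector spaces
-/

namespace Groth.Agent.H81.Kun

open scoped TensorProduct

section RangeMap

variable {k : Type u} [Field k] {A' B' : Type u} [AddCommGroup A'] [Module k A']
  [AddCommGroup B'] [Module k B'] (π : A' →ₗ[k] A') (π' : B' →ₗ[k] B')

theorem range_map_eq :
    LinearMap.range (TensorProduct.map π π') =
      LinearMap.range (TensorProduct.map (LinearMap.range π).subtype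
        (LinearMap.range π').subtype) := by
  have h : TensorProduct.map π π' =
      TensorProduct.map (LinearMap.range π).subtype (LinearMap.range π').subtype ∘ₗ
        TensorProduct.map π.rangeRestrict π'.rangeRestrict := by
    rw [← TensorProduct.map_comp]
    rfl
  rw [h, LinearMap.range_comp_of_range_eq_top]
  rw [LinearMap.range_eq_top]
  exact TensorProduct.map_surjective (LinearMap.surjective_rangeRestrict π)
    (LinearMap.surjective_rangeRestrict π')

/-- the range of `π ⊗ π'` is the tensor product of the ranges -/
noncomputable def rangeMapEquiv :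
    (LinearMap.range π) ⊗[k] (LinearMap.range π') ≃ₗ[k] LinearMap.range (TensorProduct.map π π') :=
  (LinearEquiv.ofInjective _ (TensorProduct.map_injective_of_flat_flat
    (LinearMap.range π).subtype (LinearMap.range π').subtype (Submodule.injective_subtype _)
    (Submodule.injective_subtype _))).trans (LinearEquiv.ofEq _ _ (range_map_eq π π').symm)

theorem finrank_range_map :
    Module.finrank k (LinearMap.range (TensorProduct.map π π')) =
      Module.finrank k (LinearMap.range π) * Module.finrank k (LinearMap.range π') := by
  rw [← (rangeMapEquiv π π').finrank_eq, Module.finrank_tensorProduct]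

theorem finite_range_map [Module.Finite k (LinearMap.range π)]
    [Module.Finite k (LinearMap.range π')] :
    Module.Finite k (LinearMap.range (TensorProduct.map π π')) :=
  Module.Finite.equiv (rangeMapEquiv π π')

end RangeMap

section RangePi

variable {k : Type u} [Field k]
variable {U : ℕ → Type u} [∀ a, AddCommGroup (U a)] [∀ a, Module k (U a)]
  {V : ℕ → Type u} [∀ b, AddCommGroup (V b)] [∀ b, Module k (V b)]
  (Φ : ∀ a b, U a ⊗[k] V b →ₗ[k] U a ⊗[k] V b)

/-- the range of a componentwise map is the product of the ranges -/
noncomputable def rangePiMapTo (n : ℕ) :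
    LinearMap.range (PiMap Φ n) →ₗ[k] ∀ p : Idx n, LinearMap.range (Φ p.1.1 p.1.2) where
  toFun v := fun p => ⟨v.1 p, by
    obtain ⟨w, hw⟩ := v.2
    exact ⟨w p, by rw [← hw]; rfl⟩⟩
  map_add' a b := funext fun p => Subtype.ext rfl
  map_smul' c a := funext fun p => Subtype.ext rfl

theorem rangePiMapTo_bijective (n : ℕ) : Function.Bijective (rangePiMapTo Φ n) := by
  constructor
  · intro a b hab
    apply Subtype.ext
    funext p
    exact congrArg Subtype.val (congrFun hab p)
  · intro f
    have h : ∀ p : Idx n, ∃ t, Φ p.1.1 p.1.2 t = (f p).1 := fun p => (f p).2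
    choose w hw using h
    refine ⟨⟨PiMap Φ n w, LinearMap.mem_range_self _ _⟩, ?_⟩
    funext p
    exact Subtype.ext (hw p)

theorem finrank_range_PiMap (n : ℕ)
    [∀ p : Idx n, Module.Finite k (LinearMap.range (Φ p.1.1 p.1.2))] :
    Module.finrank k (LinearMap.range (PiMap Φ n)) =
      ∑ p : Idx n, Module.finrank k (LinearMap.range (Φ p.1.1 p.1.2)) := by
  rw [(LinearEquiv.ofBijective _ (rangePiMapTo_bijective Φ n)).finrank_eq,
    Module.finrank_pi_fintype]

end RangePi

section Kunneth

variable {k : Type u} [Field k]
variable {U : ℕ → Type u} [∀ a, AddCommGroup (U a)] [∀ a, Module k (U a)]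
  {V : ℕ → Type u} [∀ b, AddCommGroup (V b)] [∀ b, Module k (V b)]
  (dU : ∀ a, U a →ₗ[k] U (a + 1)) (dV : ∀ b, V b →ₗ[k] V (b + 1))
  (hdU : ∀ a x, dU (a + 1) (dU a x) = 0) (hdV : ∀ b y, dV (b + 1) (dV b y) = 0)

include hdU hdV in
/-- **Künneth formula** for the dimensions of the cohomology of the total complex of two complexes
of vector spaces with finite dimensional cohomology -/
theorem finrank_Hs_tot (hfU : ∀ i, Module.Finite k (Hs dU (topSub U) i))
    (hfV : ∀ j, Module.Finite k (Hs dV (topSub V) j)) (n : ℕ) :
    Module.finrank k (Hs (TotD dU dV) (topSub (TotX k U V)) n) =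
      ∑ p : Idx n, Module.finrank k (Hs dU (topSub U) p.1.1) *
        Module.finrank k (Hs dV (topSub V) p.1.2) := by
  obtain ⟨A⟩ := nonempty_hodgeData dU hdU
  obtain ⟨B⟩ := nonempty_hodgeData dV hdV
  haveI : ∀ i, Module.Finite k (LinearMap.range (A.π i)) := fun i =>
    Module.Finite.equiv (A.equivHs i).symm
  haveI : ∀ j, Module.Finite k (LinearMap.range (B.π j)) := fun j =>
    Module.Finite.equiv (B.equivHs j).symm
  haveI : ∀ p : Idx n, Module.Finite k
      (LinearMap.range (TensorProduct.map (A.π p.1.1) (B.π p.1.2))) := fun p =>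
    finite_range_map _ _
  rw [(A.tot B).finrank_Hs n]
  change Module.finrank k (LinearMap.range
    (PiMap (fun a b => TensorProduct.map (A.π a) (B.π b)) n)) = _
  rw [finrank_range_PiMap]
  refine Finset.sum_congr rfl fun p _ => ?_
  rw [finrank_range_map, A.finrank_Hs, B.finrank_Hs]

end Kunneth

end Groth.Agent.H81.Kun
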