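import Mathlib
import Groth.Agent.H81.Kun.KunGen
import Groth.Agent.H81.Kun.ConnInst
import Groth.Agent.H81.Kun.Arith

set_option autoImplicit false
set_option linter.unusedSectionVars false
set_option linter.style.haveILetI false
universe u

/-!
# The Künneth formula for the torsion subcomplex of the total complex of two resolutions
-/

namespace Groth.Agent.H81.Kun

open scoped TensorProduct

section Main

variable {k : Type u} [Field k]
variable {U : ℕ → Type u} [∀ a, AddCommGroup (U a)] [∀ a, Module k (U a)]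
  {V : ℕ → Type u} [∀ b, AddCommGroup (V b)] [∀ b, Module k (V b)]

theorem dUb_dUb (dU : ∀ a, U a →ₗ[k] U (a + 1)) (U' : ∀ a, Submodule k (U a))
    (hU' : ∀ a x, x ∈ U' a → dU a x ∈ U' (a + 1)) (hdU : ∀ a x, dU (a + 1) (dU a x) = 0)
    (a : ℕ) (y : Ub U' a) : dUb dU U' hU' (a + 1) (dUb dU U' hU' a y) = 0 := by
  obtain ⟨x, rfl⟩ := Submodule.mkQ_surjective _ y
  rw [dUb_mk, dUb_mk, hdU, map_zero]

theorem finite_Hs_Ub (dU : ∀ a, U a →ₗ[k] U (a + 1)) (U' : ∀ a, Submodule k (U a))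
    (hU' : ∀ a x, x ∈ U' a → dU a x ∈ U' (a + 1)) (hdU : ∀ a x, dU (a + 1) (dU a x) = 0)
    (hexU : ∀ a, LinearMap.ker (dU (a + 1)) = LinearMap.range (dU a))
    (hU0 : ∀ x ∈ U' 0, dU 0 x = 0 → x = 0)
    (hU1 : ∀ x ∈ U' 1, dU 1 x = 0 → ∃ y ∈ U' 0, dU 0 y = x)
    (hfU : ∀ i, Module.Finite k (Hs dU U' i)) (hfU0 : Module.Finite k (LinearMap.ker (dU 0)))
    (i : ℕ) : Module.Finite k (Hs (dUb dU U' hU') (topSub (Ub U')) i) := by
  cases i with
  | zero =>
    exact Module.Finite.equiv ((LinearEquiv.ofBijective _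
      (Qker0_mkQ_bijective dU U' hU' hdU hU0 hU1)).trans (Hs_top_zero_equiv _).symm)
  | succ i =>
    obtain ⟨e⟩ := nonempty_conn_equiv dU (dUb dU U' hU') (fun a => (U' a).mkQ) hdU
      (fun _ _ => rfl) (fun a => Submodule.mkQ_surjective _) i (hexU i) (hexU (i + 1))
    rw [kerSub_mkQ] at e
    haveI := hfU (i + 2)
    exact Module.Finite.equiv e.symm

theorem sum_Idx_eq (f : ℕ → ℕ → ℕ) (n : ℕ) :
    ∑ p : Idx n, f p.1.1 p.1.2 = ∑ p ∈ Finset.HasAntidiagonal.antidiagonal n, f p.1 p.2 :=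
  (Finset.sum_subtype (Finset.HasAntidiagonal.antidiagonal n)
    (fun _ => Finset.HasAntidiagonal.mem_antidiagonal) (fun p => f p.1 p.2)).symm

/-- **Künneth formula for the torsion subcomplex** -/
theorem main (dU : ∀ a, U a →ₗ[k] U (a + 1)) (dV : ∀ b, V b →ₗ[k] V (b + 1))
    (hdU : ∀ a x, dU (a + 1) (dU a x) = 0) (hdV : ∀ b y, dV (b + 1) (dV b y) = 0)
    (U' : ∀ a, Submodule k (U a)) (hU' : ∀ a x, x ∈ U' a → dU a x ∈ U' (a + 1))
    (V' : ∀ b, Submodule k (V b)) (hV' : ∀ b y, y ∈ V' b → dV b y ∈ V' (b + 1))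
    (hexU : ∀ a, LinearMap.ker (dU (a + 1)) = LinearMap.range (dU a))
    (hexV : ∀ b, LinearMap.ker (dV (b + 1)) = LinearMap.range (dV b))
    (hU0 : ∀ x ∈ U' 0, dU 0 x = 0 → x = 0)
    (hU1 : ∀ x ∈ U' 1, dU 1 x = 0 → ∃ y ∈ U' 0, dU 0 y = x)
    (hV0 : ∀ y ∈ V' 0, dV 0 y = 0 → y = 0)
    (hV1 : ∀ y ∈ V' 1, dV 1 y = 0 → ∃ z ∈ V' 0, dV 0 z = y)
    (hfU : ∀ i, Module.Finite k (Hs dU U' i)) (hfV : ∀ j, Module.Finite k (Hs dV V' j))
    (hfU0 : Module.Finite k (LinearMap.ker (dU 0))) (hfV0 : Module.Finite k (LinearMap.ker (dV 0)))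
    (q : ℕ) :
    Module.finrank k (Hs (TotD dU dV)
        (fun n => LinearMap.ker (TotMap (fun a => (U' a).mkQ) (fun b => (V' b).mkQ) n)) q) =
      Module.finrank k (LinearMap.ker (dU 0)) * Module.finrank k (Hs dV V' q) +
        Module.finrank k (Hs dU U' q) * Module.finrank k (LinearMap.ker (dV 0)) +
        ∑ i ∈ Finset.range (q + 2),
          Module.finrank k (Hs dU U' i) * Module.finrank k (Hs dV V' (q + 1 - i)) := by
  have hu0 : Module.finrank k (Hs dU U' 0) = 0 := by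
    haveI := Hs_subsingleton_zero dU hU0
    exact Module.finrank_zero_of_subsingleton
  have hu1 : Module.finrank k (Hs dU U' 1) = 0 := by
    haveI := Hs_subsingleton_succ dU 0 hU1
    exact Module.finrank_zero_of_subsingleton
  have hv0 : Module.finrank k (Hs dV V' 0) = 0 := by
    haveI := Hs_subsingleton_zero dV hV0
    exact Module.finrank_zero_of_subsingleton
  have hv1 : Module.finrank k (Hs dV V' 1) = 0 := by
    haveI := Hs_subsingleton_succ dV 0 hV1
    exact Module.finrank_zero_of_subsingleton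
  have hGG := GG_vanish dU dV U' hU' V' hV' hdU hdV hexU hexV hU0 hU1 hV0 hV1
  match q with
  | 0 =>
    haveI := Hs_subsingleton_zero (TotD dU dV) (G := fun n => LinearMap.ker (QT U' V' n)) hGG.1
    rw [Module.finrank_zero_of_subsingleton, hv0, hu0]
    simp [Finset.sum_range_succ, hu0, hu1]
  | 1 =>
    haveI := Hs_subsingleton_succ (TotD dU dV) (G := fun n => LinearMap.ker (QT U' V' n)) 0 hGG.2
    rw [Module.finrank_zero_of_subsingleton, hv1, hu1]
    simp [Finset.sum_range_succ, hu0, hu1, hv0]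
  | n + 2 =>
    rw [← finrank_Hs_GG_succ dU dV U' hU' V' hV' hdU hdV hexU hexV n,
      finrank_Hs_tot (dUb dU U' hU') (dUb dV V' hV') (dUb_dUb dU U' hU' hdU)
        (dUb_dUb dV V' hV' hdV)
        (finite_Hs_Ub dU U' hU' hdU hexU hU0 hU1 hfU hfU0)
        (finite_Hs_Ub dV V' hV' hdV hexV hV0 hV1 hfV hfV0) (n + 1),
      sum_Idx_eq (fun i j => Module.finrank k (Hs (dUb dU U' hU') (topSub (Ub U')) i) *
        Module.finrank k (Hs (dUb dV V' hV') (topSub (Ub V')) j)) (n + 1)]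
    exact arith_kunneth (fun i => Module.finrank k (Hs dU U' i))
      (fun j => Module.finrank k (Hs dV V' j))
      (fun i => Module.finrank k (Hs (dUb dU U' hU') (topSub (Ub U')) i))
      (fun j => Module.finrank k (Hs (dUb dV V' hV') (topSub (Ub V')) j))
      (Module.finrank k (LinearMap.ker (dU 0))) (Module.finrank k (LinearMap.ker (dV 0)))
      (finrank_Hs_Ub_zero dU U' hU' hdU hU0 hU1)
      (fun i => finrank_Hs_Ub_succ dU U' hU' hdU hexU i)
      (finrank_Hs_Ub_zero dV V' hV' hdV hV0 hV1)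
      (fun j => finrank_Hs_Ub_succ dV V' hV' hdV hexV j)
      hu0 hu1 hv0 hv1 n

end Main

end Groth.Agent.H81.Kun
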